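import Mathlib
import Groth.Agent.Lib.Helper2.DimFG

/-! Helper8: dimension of a basic open of a finite type algebra over a field through the minimal
primes it meets. -/

set_option autoImplicit false
universe u

namespace Groth.Agent.H8.CIDim

section General

variable {R : Type*} [CommRing R]

/-- height does not increase under pullback along a surjection. -/
theorem height_le_height_comap_of_surjective {D : Type*} [CommRing D] (f : R →+* D)
    (hf : Function.Surjective f) (Q : Ideal D) [Q.IsPrime] :
    Q.height ≤ (Q.comap f).height := by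
  have hsm : StrictMono (PrimeSpectrum.comap f) := by
    intro a b hab
    refine lt_of_le_of_ne ?_ ?_
    · rw [← PrimeSpectrum.asIdeal_le_asIdeal]
      exact Ideal.comap_mono hab.le
    · intro h
      exact hab.ne (PrimeSpectrum.comap_injective_of_surjective f hf h)
  have h := Order.height_le_height_apply_of_strictMono _ hsm (⟨Q, inferInstance⟩ : PrimeSpectrum D)
  rw [← PrimeSpectrum.height_eq_orderHeight, ← PrimeSpectrum.height_eq_orderHeight] at h
  exact h

/-- the dimension of `R_g` is bounded by the dimensions of the irreducible components meeting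
`D(g)`. -/
theorem ringKrullDim_away_le (g : R) (N : WithBot ℕ∞)
    (h : ∀ p ∈ minimalPrimes R, g ∉ p → ringKrullDim (R ⧸ p) ≤ N) :
    ringKrullDim (Localization.Away g) ≤ N := by
  unfold ringKrullDim Order.krullDim
  apply iSup_le
  intro l
  have hsm : StrictMono (PrimeSpectrum.comap (algebraMap R (Localization.Away g))) := by
    intro a b hab
    refine lt_of_le_of_ne ?_ ?_
    · rw [← PrimeSpectrum.asIdeal_le_asIdeal]
      exact Ideal.comap_mono hab.le
    · intro h
      exact hab.ne (PrimeSpectrum.localization_comap_injective (Localization.Away g)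
        (Submonoid.powers g) h)
  let l' : LTSeries (PrimeSpectrum R) := l.map _ hsm
  obtain ⟨p, hp, hple⟩ := Ideal.exists_minimalPrimes_le (J := l'.head.asIdeal) bot_le
  have hgp : g ∉ p := by
    intro hg
    have h1 : g ∈ l'.head.asIdeal := hple hg
    have h2 : algebraMap R (Localization.Away g) g ∈ l.head.asIdeal := h1
    have h3 : IsUnit (algebraMap R (Localization.Away g) g) :=
      IsLocalization.map_units _ (⟨g, 1, by simp⟩ : Submonoid.powers g)
    exact l.head.isPrime.ne_top (Ideal.eq_top_of_isUnit_mem _ h2 h3)
  have hmem : ∀ i, l' i ∈ PrimeSpectrum.zeroLocus (R := R) p := by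
    intro i
    rw [PrimeSpectrum.mem_zeroLocus]
    refine le_trans hple ?_
    have : l'.head ≤ l' i := l'.strictMono.monotone (Fin.zero_le i)
    exact this
  let l'' : LTSeries (PrimeSpectrum.zeroLocus (R := R) p) :=
    { length := l'.length
      toFun := fun i => ⟨l' i, hmem i⟩
      step := fun i => l'.step i }
  have h4 : (l''.length : WithBot ℕ∞) ≤ Order.krullDim (PrimeSpectrum.zeroLocus (R := R) p) :=
    Order.LTSeries.length_le_krullDim l''
  rw [← ringKrullDim_quotient] at h4
  have h5 : l''.length = l.length := by simp [l'', l']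
  rw [h5] at h4
  exact h4.trans (h p hp hgp)

end General

section Field

/-- `dim S/p ≤ ht q + dim S/q` for primes `p ≤ q` of a finite type algebra over a field. -/
theorem ringKrullDim_quotient_le_height_add (k : Type u) [Field k] (S : Type u) [CommRing S]
    [Algebra k S] [Algebra.FiniteType k S] (p q : Ideal S) [p.IsPrime] [q.IsPrime] (hpq : p ≤ q) :
    ringKrullDim (S ⧸ p) ≤ (q.height : WithBot ℕ∞) + ringKrullDim (S ⧸ q) := by
  haveI : Algebra.FiniteType k (S ⧸ p) :=
    Algebra.FiniteType.of_surjective (Ideal.Quotient.mkₐ k p) Ideal.Quotient.mk_surjective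
  haveI : (q.map (Ideal.Quotient.mk p)).IsPrime := Ideal.isPrime_map_quotientMk_of_isPrime hpq
  have h1 := Groth.Agent.H2.DimFG.height_add_ringKrullDim_quotient k (S ⧸ p)
    (q.map (Ideal.Quotient.mk p))
  have h2 : ringKrullDim ((S ⧸ p) ⧸ q.map (Ideal.Quotient.mk p)) = ringKrullDim (S ⧸ q) :=
    ringKrullDim_eq_of_ringEquiv (DoubleQuot.quotQuotEquivQuotOfLE hpq)
  have h3 : (q.map (Ideal.Quotient.mk p)).comap (Ideal.Quotient.mk p) = q := by
    rw [Ideal.comap_map_of_surjective _ Ideal.Quotient.mk_surjective, sup_eq_left,
      ← RingHom.ker_eq_comap_bot, Ideal.mk_ker]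
    exact hpq
  have h4 := height_le_height_comap_of_surjective (Ideal.Quotient.mk p)
    Ideal.Quotient.mk_surjective (q.map (Ideal.Quotient.mk p))
  rw [h3] at h4
  rw [← h1, h2]
  gcongr
  exact_mod_cast h4

end Field

end Groth.Agent.H8.CIDim
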