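import Mathlib
import Groth.Agent.Lib.Helper1.RegQuot
import Groth.Agent.Lib.Helper6.CMKit
import Groth.Agent.Lib.Helper1.CMFlat

/-! Helper8: ideals `K` of a Noetherian local ring generated by `dim R - dim R/K` elements
("complete intersection ideals"), and invariance under surjections of regular local rings. -/

set_option autoImplicit false
universe u

open IsLocalRing

namespace Groth.Agent.H8.CIId

section Basic

variable {R : Type u} [CommRing R] [IsLocalRing R] [IsNoetherianRing R]

lemma exists_dim_eq (R : Type u) [CommRing R] [IsLocalRing R] [IsNoetherianRing R] :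
    ∃ d : ℕ, ringKrullDim R = d := by
  have h1 := ringKrullDim_ne_top (R := R)
  have h2 := ringKrullDim_ne_bot (R := R)
  generalize ringKrullDim R = x at h1 h2
  induction x using WithBot.recBotCoe with
  | bot => exact absurd rfl h2
  | coe a =>
    induction a using ENat.recTopCoe with
    | top => exact absurd rfl h1
    | coe n => exact ⟨n, rfl⟩

/-- `K` is generated by `dim R - dim R/K` elements. -/
def IsCI (K : Ideal R) : Prop :=
  ringKrullDim (R ⧸ K) + (K.spanFinrank : WithBot ℕ∞) = ringKrullDim R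

lemma IsCI.ne_top {K : Ideal R} (h : IsCI K) : K ≠ ⊤ := by
  rintro rfl
  unfold IsCI at h
  haveI : Subsingleton (R ⧸ (⊤ : Ideal R)) := Ideal.Quotient.subsingleton_iff.mpr rfl
  rw [ringKrullDim_eq_bot_of_subsingleton, WithBot.bot_add] at h
  exact ringKrullDim_ne_bot h.symm

lemma le_add (K : Ideal R) (hK : K ≠ ⊤) :
    ringKrullDim R ≤ ringKrullDim (R ⧸ K) + (K.spanFinrank : WithBot ℕ∞) := by
  apply ringKrullDim_le_ringKrullDim_quotient_add_spanFinrank
  rw [IsLocalRing.ringJacobson_eq_maximalIdeal]
  exact le_maximalIdeal hK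

lemma isCI_iff_le {K : Ideal R} (hK : K ≠ ⊤) :
    IsCI K ↔ ringKrullDim (R ⧸ K) + (K.spanFinrank : WithBot ℕ∞) ≤ ringKrullDim R :=
  ⟨le_of_eq, fun h => le_antisymm h (le_add K hK)⟩

lemma spanFinrank_span_finset_le (s : Finset R) :
    (Ideal.span (s : Set R)).spanFinrank ≤ s.card := by
  have h := Submodule.spanFinrank_span_le_ncard_of_finite (R := R) (M := R) s.finite_toSet
  rwa [Set.ncard_coe_finset] at h

lemma isCI_of_finset (s : Finset R) (hK : Ideal.span (s : Set R) ≠ ⊤)
    (h : ringKrullDim (R ⧸ Ideal.span (s : Set R)) + (s.card : WithBot ℕ∞) ≤ ringKrullDim R) :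
    IsCI (Ideal.span (s : Set R)) := by
  rw [isCI_iff_le hK]
  refine le_trans ?_ h
  gcongr
  exact_mod_cast spanFinrank_span_finset_le s

lemma exists_finset_card_eq (K : Ideal R) :
    ∃ s : Finset R, s.card = K.spanFinrank ∧ Ideal.span (s : Set R) = K :=
  Submodule.FG.exists_span_finset_card_eq_spanFinrank (IsNoetherian.noetherian K)

lemma isCI_iff_exists_finset {K : Ideal R} (hK : K ≠ ⊤) (c : ℕ)
    (hc : ringKrullDim (R ⧸ K) + (c : WithBot ℕ∞) = ringKrullDim R) :
    IsCI K ↔ ∃ s : Finset R, s.card = c ∧ Ideal.span (s : Set R) = K := by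
  haveI : Nontrivial (R ⧸ K) := Ideal.Quotient.nontrivial_iff.mpr hK
  obtain ⟨e, he⟩ := exists_dim_eq (R ⧸ K)
  constructor
  · intro h
    obtain ⟨s, hs, hsK⟩ := exists_finset_card_eq K
    refine ⟨s, ?_, hsK⟩
    unfold IsCI at h
    rw [← hc, he] at h
    have h' : e + K.spanFinrank = e + c := by exact_mod_cast h
    omega
  · rintro ⟨s, hs, rfl⟩
    apply isCI_of_finset s hK
    rw [hs, hc]

end Basic

section CM

variable {R : Type u} [CommRing R] [IsLocalRing R] [IsNoetherianRing R]

lemma ofList_toList (s : Finset R) : Ideal.ofList s.toList = Ideal.span (s : Set R) := by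
  unfold Ideal.ofList
  congr 1
  ext x
  simp

theorem exists_isRegular_of_isCI (hcm : LocCoh.IsCohenMacaulayModule R R) {K : Ideal R}
    (h : IsCI K) : ∃ rs : List R, RingTheory.Sequence.IsRegular R rs ∧ Ideal.ofList rs = K := by
  have hK := h.ne_top
  obtain ⟨s, hs, hsK⟩ := exists_finset_card_eq K
  refine ⟨s.toList, ?_, by rw [ofList_toList, hsK]⟩
  have h0 : Ideal.ofList s.toList • (⊤ : Submodule R R) = K := by
    rw [smul_eq_mul, Ideal.mul_top, ofList_toList, hsK]
  have hmem : ∀ x ∈ s.toList, x ∈ maximalIdeal R := by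
    intro x hx
    rw [Finset.mem_toList] at hx
    apply le_maximalIdeal hK
    rw [← hsK]
    exact Ideal.subset_span hx
  have hdim : Module.supportDim R (R ⧸ (Ideal.ofList s.toList • (⊤ : Submodule R R))) +
      (s.toList.length : WithBot ℕ∞) = Module.supportDim R R := by
    rw [Module.supportDim_eq_of_equiv (Submodule.quotEquivOfEq _ _ h0),
      Module.supportDim_quotient_eq_ringKrullDim, Module.supportDim_self_eq_ringKrullDim,
      Finset.length_toList, hs]
    exact h
  refine ⟨Groth.Agent.H6.CM.isWeaklyRegular_of_supportDim s.toList R hcm hmem hdim, ?_⟩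
  rw [h0]
  exact fun h => hK h.symm

theorem isCI_of_isRegular (rs : List R) (hreg : RingTheory.Sequence.IsRegular R rs) :
    IsCI (Ideal.ofList rs) := by
  have hK : Ideal.ofList rs ≠ ⊤ := by
    intro h
    apply hreg.2
    rw [smul_eq_mul, Ideal.mul_top, h]
  rw [isCI_iff_le hK]
  have h1 := ringKrullDim_add_length_eq_ringKrullDim_of_isRegular rs hreg
  rw [← h1]
  gcongr
  classical
  have h2 : (Ideal.ofList rs).spanFinrank ≤ rs.toFinset.card := by
    have : Ideal.ofList rs = Ideal.span (rs.toFinset : Set R) := by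
      unfold Ideal.ofList
      congr 1
      ext x
      simp
    rw [this]
    exact spanFinrank_span_finset_le _
  exact_mod_cast h2.trans (List.toFinset_card_le rs)

theorem isCI_iff_exists_isRegular (hcm : LocCoh.IsCohenMacaulayModule R R) (K : Ideal R) :
    IsCI K ↔ ∃ rs : List R, RingTheory.Sequence.IsRegular R rs ∧ Ideal.ofList rs = K :=
  ⟨exists_isRegular_of_isCI hcm, fun ⟨rs, hreg, h⟩ => h ▸ isCI_of_isRegular rs hreg⟩

end CM

section Exchange

variable {R : Type u} [CommRing R] [IsLocalRing R] [IsNoetherianRing R]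

open Classical in
/-- one exchange step. -/
lemma exchange_step (K T : Ideal R) (s : Finset R) (hs : Ideal.span (s : Set R) ⊔ T = K) (y : R)
    (hyK : y ∈ K) (hy : y ∉ maximalIdeal R * K ⊔ T) :
    ∃ z ∈ s, Ideal.span ((s.erase z : Finset R) : Set R) ⊔ (T ⊔ Ideal.span {y}) = K := by
  classical
  have hsK : ∀ z ∈ s, z ∈ K := fun z hz => hs ▸ Ideal.mem_sup_left (Ideal.subset_span hz)
  have hTK : T ≤ K := hs ▸ le_sup_right
  rw [← hs] at hyK
  obtain ⟨v, hv, t, ht, hvt⟩ := Submodule.mem_sup.mp hyK
  obtain ⟨c, hc⟩ := (Submodule.mem_span_finset' (R := R)).mp hv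
  -- some coefficient is a unit
  have hex : ∃ z : s, c z ∉ maximalIdeal R := by
    by_contra hcon
    push Not at hcon
    apply hy
    rw [← hvt]
    refine Ideal.add_mem _ (Ideal.mem_sup_left ?_) (Ideal.mem_sup_right ht)
    rw [← hc]
    refine Ideal.sum_mem _ fun z _ => ?_
    rw [smul_eq_mul]
    exact Ideal.mul_mem_mul (hcon z) (hsK z z.2)
  obtain ⟨z, hz⟩ := hex
  have hu : IsUnit (c z) := by
    by_contra h
    exact hz ((mem_maximalIdeal _).mpr h)
  refine ⟨z, z.2, ?_⟩
  set J := Ideal.span ((s.erase z : Finset R) : Set R) ⊔ (T ⊔ Ideal.span {y}) with hJ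
  apply le_antisymm
  · refine sup_le ?_ (sup_le hTK ?_)
    · rw [Ideal.span_le]
      intro w hw
      exact hsK w (Finset.mem_of_mem_erase (Finset.mem_coe.mp hw))
    · rw [Ideal.span_le, Set.singleton_subset_iff]
      rw [← hs]
      exact hyK
  · rw [← hs]
    have hothers : ∀ w ∈ s, w ≠ (z : R) → w ∈ J := by
      intro w hw hne
      exact Ideal.mem_sup_left (Ideal.subset_span (Finset.mem_coe.mpr
        (Finset.mem_erase.mpr ⟨hne, hw⟩)))
    have hyJ : y ∈ J := Ideal.mem_sup_right (Ideal.mem_sup_right (Ideal.subset_span rfl))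
    have htJ : t ∈ J := Ideal.mem_sup_right (Ideal.mem_sup_left ht)
    have hzJ : (z : R) ∈ J := by
      have h1 : c z * (z : R) = y - t - ∑ w ∈ (Finset.univ : Finset s).erase z, c w • (w : R) := by
        have h2 : ∑ w : s, c w • (w : R) =
            c z • (z : R) + ∑ w ∈ (Finset.univ : Finset s).erase z, c w • (w : R) :=
          (Finset.add_sum_erase _ (fun w : s => c w • (w : R)) (Finset.mem_univ z)).symm
        rw [smul_eq_mul] at h2
        rw [← hvt, ← hc, h2]
        ring
      have h3 : c z * (z : R) ∈ J := by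
        rw [h1]
        refine Ideal.sub_mem _ (Ideal.sub_mem _ hyJ htJ) (Ideal.sum_mem _ fun w hw => ?_)
        rw [smul_eq_mul]
        apply Ideal.mul_mem_left
        apply hothers w w.2
        intro h
        exact (Finset.mem_erase.mp hw).1 (Subtype.ext h)
      obtain ⟨u, hu'⟩ := hu
      have : (z : R) = ↑u⁻¹ * (c z * (z : R)) := by
        rw [← mul_assoc, ← hu', Units.inv_mul, one_mul]
      rw [this]
      exact Ideal.mul_mem_left _ _ h3
    refine sup_le ?_ (le_sup_of_le_right le_sup_left)
    rw [Ideal.span_le]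
    intro w hw
    by_cases h : w = (z : R)
    · rw [h]; exact hzJ
    · exact hothers w (Finset.mem_coe.mp hw) h

lemma span_range_succ {r : ℕ} (x : Fin (r + 1) → R) :
    Ideal.span (Set.range x) =
      Ideal.span (Set.range fun i : Fin r => x i.castSucc) ⊔ Ideal.span {x (Fin.last r)} := by
  rw [← Ideal.span_union]
  congr 1
  ext y
  simp only [Set.mem_range, Set.union_singleton, Set.mem_insert_iff]
  constructor
  · rintro ⟨i, rfl⟩
    induction i using Fin.lastCases with
    | last => exact Or.inl rfl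
    | cast i => exact Or.inr ⟨i, rfl⟩
  · rintro (rfl | ⟨i, rfl⟩)
    · exact ⟨_, rfl⟩
    · exact ⟨_, rfl⟩

/-- elements of `K` which are independent modulo `𝔪 K` extend to a minimal system of generators. -/
theorem exists_finset_sup_span (K : Ideal R) :
    ∀ (r : ℕ) (x : Fin r → R), (∀ i, x i ∈ K) →
      (∀ a : Fin r → R, ∑ i, a i * x i ∈ maximalIdeal R * K → ∀ i, a i ∈ maximalIdeal R) →
      ∃ s : Finset R, Ideal.span (s : Set R) ⊔ Ideal.span (Set.range x) = K ∧
        s.card + r ≤ K.spanFinrank := by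
  classical
  intro r
  induction r with
  | zero =>
    intro x _ _
    obtain ⟨s, hs, hsK⟩ := exists_finset_card_eq K
    refine ⟨s, ?_, by omega⟩
    have : Set.range x = ∅ := Set.range_eq_empty x
    rw [this, Ideal.span_empty, sup_bot_eq, hsK]
  | succ r ih =>
    intro x hx hind
    set x' : Fin r → R := fun i => x i.castSucc with hx'
    have hind' : ∀ a : Fin r → R, ∑ i, a i * x' i ∈ maximalIdeal R * K →
        ∀ i, a i ∈ maximalIdeal R := by
      intro a ha i
      have h1 := hind (Fin.snoc a 0) (by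
        rw [Fin.sum_univ_castSucc]
        simpa using ha) i.castSucc
      simpa using h1
    obtain ⟨s, hs, hcard⟩ := ih x' (fun i => hx _) hind'
    have hy : x (Fin.last r) ∉ maximalIdeal R * K ⊔ Ideal.span (Set.range x') := by
      intro h
      obtain ⟨w, hw, t, ht, hwt⟩ := Submodule.mem_sup.mp h
      obtain ⟨a, ha⟩ := (Ideal.mem_span_range_iff_exists_fun (R := R)).mp ht
      have h1 := hind (Fin.snoc (fun i => - a i) 1) (by
        rw [Fin.sum_univ_castSucc]
        simp only [Fin.snoc_castSucc, Fin.snoc_last, one_mul, neg_mul, Finset.sum_neg_distrib]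
        have : -∑ i, a i * x i.castSucc + x (Fin.last r) = w := by
          rw [← hwt, ← ha]; ring
        rw [this]
        exact hw) (Fin.last r)
      simp only [Fin.snoc_last] at h1
      exact (Ideal.ne_top_iff_one _).mp (maximalIdeal.isMaximal R).ne_top h1
    obtain ⟨z, hz, hJ⟩ := exchange_step K (Ideal.span (Set.range x')) s hs (x (Fin.last r))
      (hx _) hy
    refine ⟨s.erase z, ?_, ?_⟩
    · rw [span_range_succ x]
      exact hJ
    · rw [Finset.card_erase_of_mem hz]
      have : 0 < s.card := Finset.card_pos.mpr ⟨z, hz⟩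
      omega

end Exchange

section Regular

/-- variant of helper1's `RegQuot.exists_regular_generators` (same proof) which also records the
linear independence in the cotangent space. -/
theorem exists_regular_generators' (A : Type u) [CommRing A] [IsRegularLocalRing A] (J : Ideal A)
    [IsRegularLocalRing (A ⧸ J)] (hJm : J ≤ maximalIdeal A) :
    ∃ (r : ℕ) (x : Fin r → A) (hxJ : ∀ i, x i ∈ J),
      LinearIndependent (ResidueField A)
        (fun i => (maximalIdeal A).toCotangent ⟨x i, hJm (hxJ i)⟩) ∧
      RingTheory.Sequence.IsRegular A (List.ofFn x) ∧ Ideal.span (Set.range x) = J := by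
  classical
  obtain ⟨r, x, hxJ, hli, hle⟩ := Groth.Agent.H1.RegQuot.exists_linearIndependent_in A J hJm
  obtain ⟨hBreg, hxreg⟩ := Groth.Agent.H1.RegDer.regular_of_linearIndependent A r x
    (fun i => hJm (hxJ i)) hli
  refine ⟨r, x, hxJ, hli, hxreg, ?_⟩
  set I := Ideal.span (Set.range x) with hI
  have hIJ : I ≤ J := by
    rw [hI, Ideal.span_le]; rintro _ ⟨i, rfl⟩; exact hxJ i
  apply le_antisymm hIJ
  haveI := hBreg
  set K := J.map (Ideal.Quotient.mk I) with hK
  have e : ((A ⧸ I) ⧸ K) ≃+* A ⧸ J := DoubleQuot.quotQuotEquivQuotOfLE hIJ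
  haveI : IsRegularLocalRing ((A ⧸ I) ⧸ K) := IsRegularLocalRing.of_ringEquiv (R := A ⧸ J) e.symm
  have hsurj : Function.Surjective (Ideal.Quotient.mk I) := Ideal.Quotient.mk_surjective
  have hmmap : (maximalIdeal A).map (Ideal.Quotient.mk I) ≤ maximalIdeal (A ⧸ I) := by
    rw [Ideal.map_le_iff_le_comap]
    haveI : IsLocalHom (Ideal.Quotient.mk I) := IsLocalHom.of_surjective _ hsurj
    rw [IsLocalRing.maximalIdeal_comap (Ideal.Quotient.mk I)]
  have hK2 : K ≤ maximalIdeal (A ⧸ I) ^ 2 := by
    rw [hK]
    refine (Ideal.map_mono hle).trans ?_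
    rw [Ideal.map_sup, Ideal.map_pow, Ideal.map_quotient_self, bot_sup_eq]
    exact Ideal.pow_right_mono hmmap 2
  have h1 := Groth.Agent.H1.RegQuot.spanFinrank_maximalIdeal_le_of_le_sq (A ⧸ I) K hK2
  have hdB := (IsRegularLocalRing.spanFinrank_maximalIdeal (R := A ⧸ I)).symm
  have hdC := (IsRegularLocalRing.spanFinrank_maximalIdeal (R := (A ⧸ I) ⧸ K)).symm
  have hle' : ringKrullDim ((A ⧸ I) ⧸ K) ≤ ringKrullDim (A ⧸ I) := ringKrullDim_quotient_le K
  rw [hdB, hdC] at hle'
  have h2 : (maximalIdeal ((A ⧸ I) ⧸ K)).spanFinrank ≤ (maximalIdeal (A ⧸ I)).spanFinrank := by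
    exact_mod_cast hle'
  have h3 : (maximalIdeal ((A ⧸ I) ⧸ K)).spanFinrank = (maximalIdeal (A ⧸ I)).spanFinrank :=
    le_antisymm h2 h1
  rw [h3] at hdC
  haveI : IsDomain ((A ⧸ I) ⧸ K) := Groth.Agent.H7.Reg.isDomain _
  haveI : K.IsPrime := (Ideal.Quotient.isDomain_iff_prime K).mp inferInstance
  haveI : IsDomain (A ⧸ I) := Groth.Agent.H7.Reg.isDomain _
  have h4 := Groth.Agent.H6.Dim.mem_minimalPrimes_of_ringKrullDim_quotient_eq _ hdB K hdC
  rw [IsDomain.minimalPrimes_eq_singleton_bot, Set.mem_singleton_iff] at h4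
  rw [hK, Ideal.map_eq_bot_iff_le_ker, Ideal.mk_ker] at h4
  exact h4

/-- linear independence in the cotangent space gives independence modulo `𝔪 K` for `K ≤ 𝔪`. -/
lemma indep_of_linearIndependent {A : Type u} [CommRing A] [IsLocalRing A] {r : ℕ} (x : Fin r → A)
    (hxm : ∀ i, x i ∈ maximalIdeal A)
    (hli : LinearIndependent (ResidueField A)
      (fun i => (maximalIdeal A).toCotangent ⟨x i, hxm i⟩))
    (K : Ideal A) (hK : K ≤ maximalIdeal A) (a : Fin r → A)
    (ha : ∑ i, a i * x i ∈ maximalIdeal A * K) : ∀ i, a i ∈ maximalIdeal A := by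
  rw [Fintype.linearIndependent_iff] at hli
  have h1 : ∑ i, (residue A (a i)) • (maximalIdeal A).toCotangent ⟨x i, hxm i⟩ = 0 := by
    have h2 : ∀ i, (residue A (a i)) • (maximalIdeal A).toCotangent ⟨x i, hxm i⟩ =
        (maximalIdeal A).toCotangent (a i • (⟨x i, hxm i⟩ : maximalIdeal A)) := by
      intro i
      rw [map_smul]
      exact algebraMap_smul (ResidueField A) (a i) _
    simp_rw [h2]
    rw [← map_sum, Ideal.toCotangent_eq_zero]
    have h3 : ((∑ i, a i • (⟨x i, hxm i⟩ : maximalIdeal A) : maximalIdeal A) : A) =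
        ∑ i, a i * x i := by
      simp
    rw [h3, pow_two]
    exact Ideal.mul_mono_right hK ha
  intro i
  have := hli _ h1 i
  rwa [residue_eq_zero_iff] at this

end Regular

section Surj

variable {R' R : Type u} [CommRing R'] [IsRegularLocalRing R'] [CommRing R] [IsRegularLocalRing R]
  (ψ : R' →+* R) (hψ : Function.Surjective ψ)

include hψ in
/-- for a surjection `ψ : R' → R` of regular local rings, `μ(ψ⁻¹ K) = μ(K) + (dim R' - dim R)`. -/
theorem exists_spanFinrank_comap (K : Ideal R) (hK : K ≠ ⊤) :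
    ∃ r : ℕ, (K.comap ψ).spanFinrank = K.spanFinrank + r ∧
      ringKrullDim R' = ringKrullDim R + (r : WithBot ℕ∞) := by
  classical
  set T := RingHom.ker ψ with hT
  have hloc : IsLocalHom ψ := IsLocalHom.of_surjective _ hψ
  let e : (R' ⧸ T) ≃+* R := RingHom.quotientKerEquivOfSurjective hψ
  haveI : IsRegularLocalRing (R' ⧸ T) := IsRegularLocalRing.of_ringEquiv e.symm
  have hTtop : T ≠ ⊤ := Ideal.Quotient.nontrivial_iff.mp inferInstance
  have hTm : T ≤ maximalIdeal R' := le_maximalIdeal hTtop
  obtain ⟨r, x, hxT, hli, hreg, hspan⟩ := exists_regular_generators' R' T hTm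
  have hKm : K ≤ maximalIdeal R := le_maximalIdeal hK
  have hK'm : K.comap ψ ≤ maximalIdeal R' := by
    rw [← IsLocalRing.maximalIdeal_comap ψ]
    exact Ideal.comap_mono hKm
  have hTK' : T ≤ K.comap ψ := by
    intro z hz
    rw [Ideal.mem_comap, (RingHom.mem_ker).mp hz]
    exact K.zero_mem
  refine ⟨r, ?_, ?_⟩
  · apply le_antisymm
    · -- generators: lifts of generators of `K` together with `x`
      obtain ⟨s, hs, hsK⟩ := exists_finset_card_eq K
      let s' : Finset R' := s.image (Function.surjInv hψ)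
      have hs' : (Ideal.span (s' : Set R')).map ψ = K := by
        rw [Ideal.map_span, ← hsK]
        congr 1
        ext y
        simp only [s', Finset.coe_image, Set.mem_image, Finset.mem_coe]
        constructor
        · rintro ⟨_, ⟨z, hz, rfl⟩, rfl⟩
          rwa [Function.surjInv_eq hψ]
        · intro hy
          exact ⟨_, ⟨y, hy, rfl⟩, Function.surjInv_eq hψ y⟩
      have h1 : K.comap ψ = Ideal.span ((s' ∪ Finset.univ.image x : Finset R') : Set R') := by
        rw [← hs', Ideal.comap_map_of_surjective ψ hψ, ← RingHom.ker_eq_comap_bot, ← hT, ← hspan,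
          Finset.coe_union, Ideal.span_union]
        congr 2
        ext y
        simp
      rw [h1]
      refine (spanFinrank_span_finset_le _).trans ?_
      refine (Finset.card_union_le _ _).trans ?_
      have h2 : s'.card ≤ s.card := Finset.card_image_le
      have h3 : (Finset.univ.image x).card ≤ r := by
        refine Finset.card_image_le.trans ?_
        simp
      omega
    · obtain ⟨s, hs, hcard⟩ := exists_finset_sup_span (K.comap ψ) r x (fun i => hTK' (hxT i))
        (indep_of_linearIndependent x (fun i => hTm (hxT i)) hli _ hK'm)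
      have h1 : K = Ideal.span ((s.image ψ : Finset R) : Set R) := by
        conv_lhs => rw [← Ideal.map_comap_of_surjective ψ hψ K, ← hs, Ideal.map_sup, hspan,
          Ideal.map_span]
        have : T.map ψ = ⊥ := by
          rw [Ideal.map_eq_bot_iff_le_ker]
        rw [this, sup_bot_eq, Finset.coe_image]
      have h2 : K.spanFinrank ≤ s.card := by
        rw [h1]
        exact (spanFinrank_span_finset_le _).trans Finset.card_image_le
      omega
  · have h1 := ringKrullDim_add_length_eq_ringKrullDim_of_isRegular _ hreg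
    rw [List.length_ofFn] at h1
    have h2 : Ideal.ofList (List.ofFn x) = T := by
      rw [← hspan]
      unfold Ideal.ofList
      congr 1
      ext y
      simp
    rw [h2, ringKrullDim_eq_of_ringEquiv e] at h1
    exact h1.symm

include hψ in
/-- invariance of the complete intersection property under surjections of regular local rings. -/
theorem isCI_comap_iff (K : Ideal R) (hK : K ≠ ⊤) : IsCI (K.comap ψ) ↔ IsCI K := by
  obtain ⟨r, hr1, hr2⟩ := exists_spanFinrank_comap ψ hψ K hK
  let f : R' →+* R ⧸ K := (Ideal.Quotient.mk K).comp ψ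
  have hf : Function.Surjective f := Ideal.Quotient.mk_surjective.comp hψ
  have hker : RingHom.ker f = K.comap ψ := by
    ext z
    simp [f, RingHom.mem_ker, Ideal.Quotient.eq_zero_iff_mem]
  let e : (R' ⧸ K.comap ψ) ≃+* R ⧸ K :=
    (Ideal.quotEquivOfEq hker.symm).trans (RingHom.quotientKerEquivOfSurjective hf)
  haveI : Nontrivial (R ⧸ K) := Ideal.Quotient.nontrivial_iff.mpr hK
  obtain ⟨d, hd⟩ := exists_dim_eq (R ⧸ K)
  obtain ⟨n, hn⟩ := exists_dim_eq R
  unfold IsCI
  rw [ringKrullDim_eq_of_ringEquiv e, hr1, hr2, hd, hn]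
  constructor
  · intro h
    have h' : d + (K.spanFinrank + r) = n + r := by exact_mod_cast h
    have : d + K.spanFinrank = n := by omega
    exact_mod_cast this
  · intro h
    have h' : d + K.spanFinrank = n := by exact_mod_cast h
    have : d + (K.spanFinrank + r) = n + r := by omega
    exact_mod_cast this

end Surj

end Groth.Agent.H8.CIId
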