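import Mathlib
import Groth.Agent.Lib.Helper8.CI.CIId

/-! Helper8: independence of the presentation for the complete intersection property of a local
`k`-algebra: localized polynomial presentations and regular local rings essentially of finite
type. -/

set_option autoImplicit false
universe u

open IsLocalRing MvPolynomial

namespace Groth.Agent.H8.CIPres

open Groth.Agent.H8.CIId

variable {k : Type u} [Field k] {B : Type u} [CommRing B] [IsLocalRing B] [Algebra k B]

section Pres

variable {τ : Type} [Finite τ] (φ : MvPolynomial τ k →ₐ[k] B)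

/-- the prime of the polynomial ring lying under the maximal ideal of `B`. -/
noncomputable def Q : Ideal (MvPolynomial τ k) := (maximalIdeal B).comap φ.toRingHom

instance : (Q φ).IsPrime := Ideal.comap_isPrime _ _

lemma isUnit_of_notMem (y : (Q φ).primeCompl) : IsUnit (φ y) := by
  have h := y.2
  by_contra hu
  exact h ((mem_maximalIdeal _).mpr hu)

/-- the induced map from the local ring of the polynomial ring. -/
noncomputable def locMap : Localization.AtPrime (Q φ) →ₐ[k] B :=
  IsLocalization.liftAlgHom (M := (Q φ).primeCompl) (f := φ) (isUnit_of_notMem φ)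

lemma locMap_algebraMap (p : MvPolynomial τ k) :
    locMap φ (algebraMap _ (Localization.AtPrime (Q φ)) p) = φ p := by
  simp [locMap]

instance : IsRegularRing k := inferInstance

instance : IsRegularLocalRing (Localization.AtPrime (Q φ)) := inferInstance

end Pres

section Retract

variable {σ τ : Type} [Finite σ] [Finite τ]
  (P : Ideal (MvPolynomial σ k)) [P.IsPrime]
  (π : Localization.AtPrime P →ₐ[k] B) (hπ : Function.Surjective π)
  (φ : MvPolynomial τ k →ₐ[k] B) (ι : σ → τ) (hι : Function.Injective ι)
  (hcompat : ∀ i, φ (X (ι i)) = π (algebraMap (MvPolynomial σ k) (Localization.AtPrime P) (X i)))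

include hπ hι hcompat in
theorem exists_retraction :
    ∃ ψ : Localization.AtPrime (Q φ) →+* Localization.AtPrime P,
      Function.Surjective ψ ∧ π.toRingHom.comp ψ = (locMap φ).toRingHom := by
  classical
  haveI : IsLocalHom π.toRingHom := IsLocalHom.of_surjective _ hπ
  -- lifts of the variables
  let r : τ → Localization.AtPrime P := fun t =>
    if h : ∃ i, ι i = t then algebraMap (MvPolynomial σ k) (Localization.AtPrime P) (X h.choose)
    else Function.surjInv hπ (φ (X t))
  have hr1 : ∀ i, r (ι i) = algebraMap (MvPolynomial σ k) (Localization.AtPrime P) (X i) := by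
    intro i
    have h : ∃ j, ι j = ι i := ⟨i, rfl⟩
    simp only [r, dif_pos h]
    rw [hι h.choose_spec]
  have hr2 : ∀ t, π (r t) = φ (X t) := by
    intro t
    by_cases h : ∃ i, ι i = t
    · simp only [r, dif_pos h]
      rw [← hcompat, h.choose_spec]
    · simp only [r, dif_neg h]
      exact Function.surjInv_eq hπ _
  let θ : MvPolynomial τ k →ₐ[k] Localization.AtPrime P := aeval r
  have hθ : π.comp θ = φ := by
    apply MvPolynomial.algHom_ext
    intro t
    simp [θ, hr2]
  have hθι : θ.comp (rename ι) = IsScalarTower.toAlgHom k (MvPolynomial σ k)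
      (Localization.AtPrime P) := by
    apply MvPolynomial.algHom_ext
    intro i
    simp [θ, hr1]
  have hunit : ∀ y : (Q φ).primeCompl, IsUnit (θ.toRingHom y) := by
    intro y
    have h1 : IsUnit (π.toRingHom (θ.toRingHom y)) := by
      have h0 := isUnit_of_notMem φ y
      have h2 : φ (y : MvPolynomial τ k) = π (θ (y : MvPolynomial τ k)) := by
        rw [← AlgHom.comp_apply, hθ]
      rw [h2] at h0
      exact h0
    exact isUnit_of_map_unit π.toRingHom _ h1
  let ψ : Localization.AtPrime (Q φ) →+* Localization.AtPrime P :=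
    IsLocalization.lift (M := (Q φ).primeCompl) hunit
  have hψ : ∀ p : MvPolynomial τ k, ψ (algebraMap _ _ p) = θ p := fun p =>
    IsLocalization.lift_eq hunit p
  have hcomp : π.toRingHom.comp ψ = (locMap φ).toRingHom := by
    apply IsLocalization.ringHom_ext (Q φ).primeCompl
    ext p
    · simp only [RingHom.comp_apply]
      have h1 : ψ (algebraMap _ _ (C p)) = θ (C p) := hψ _
      have h2 : (locMap φ).toRingHom (algebraMap _ _ (C p)) = φ (C p) := locMap_algebraMap φ _
      rw [h1, h2, ← hθ]
      rfl
    · simp only [RingHom.comp_apply]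
      have h1 : ψ (algebraMap _ _ (X p)) = θ (X p) := hψ _
      have h2 : (locMap φ).toRingHom (algebraMap _ _ (X p)) = φ (X p) := locMap_algebraMap φ _
      rw [h1, h2, ← hθ]
      rfl
  refine ⟨ψ, ?_, hcomp⟩
  intro y
  obtain ⟨a, b, rfl⟩ := IsLocalization.exists_mk'_eq P.primeCompl y
  have hθa : ∀ p : MvPolynomial σ k, θ (rename ι p) =
      algebraMap _ (Localization.AtPrime P) p := fun p => by
    have := AlgHom.congr_fun hθι p
    simpa using this
  have hb : rename ι (b : MvPolynomial σ k) ∈ (Q φ).primeCompl := by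
    change rename ι (b : MvPolynomial σ k) ∉ Q φ
    unfold Q
    rw [Ideal.mem_comap]
    change φ (rename ι (b : MvPolynomial σ k)) ∉ maximalIdeal B
    rw [← hθ, AlgHom.comp_apply, hθa]
    intro hm
    have hu : IsUnit (algebraMap _ (Localization.AtPrime P) (b : MvPolynomial σ k)) :=
      IsLocalization.map_units _ b
    exact ((mem_maximalIdeal _).mp hm) (hu.map π)
  refine ⟨IsLocalization.mk' _ (rename ι a) ⟨rename ι (b : MvPolynomial σ k), hb⟩, ?_⟩
  have hu : IsUnit (algebraMap _ (Localization.AtPrime P) (b : MvPolynomial σ k)) :=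
    IsLocalization.map_units _ b
  apply hu.mul_right_cancel
  rw [IsLocalization.mk'_spec, ← hθa (b : MvPolynomial σ k), ← hψ, ← map_mul]
  have : IsLocalization.mk' (Localization.AtPrime (Q φ)) (rename ι a)
      ⟨rename ι (b : MvPolynomial σ k), hb⟩ * algebraMap _ _ (rename ι (b : MvPolynomial σ k)) =
      algebraMap _ _ (rename ι a) := IsLocalization.mk'_spec _ _ _
  rw [this, hψ, hθa]

include hπ hι hcompat in
theorem isCI_ker_locMap_iff :
    IsCI (RingHom.ker (locMap φ).toRingHom) ↔ IsCI (RingHom.ker π.toRingHom) := by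
  obtain ⟨ψ, hψ, hcomp⟩ := exists_retraction P π hπ φ ι hι hcompat
  have hK : RingHom.ker π.toRingHom ≠ ⊤ := by
    intro h
    have : (1 : Localization.AtPrime P) ∈ RingHom.ker π.toRingHom := h ▸ Submodule.mem_top
    rw [RingHom.mem_ker, map_one] at this
    exact one_ne_zero this
  rw [← hcomp, ← RingHom.comap_ker]
  exact isCI_comap_iff ψ hψ _ hK

end Retract

section Two

variable {σ₁ σ₂ : Type} [Finite σ₁] [Finite σ₂]
  (P₁ : Ideal (MvPolynomial σ₁ k)) [P₁.IsPrime]
  (π₁ : Localization.AtPrime P₁ →ₐ[k] B) (hπ₁ : Function.Surjective π₁)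
  (P₂ : Ideal (MvPolynomial σ₂ k)) [P₂.IsPrime]
  (π₂ : Localization.AtPrime P₂ →ₐ[k] B) (hπ₂ : Function.Surjective π₂)

include hπ₁ hπ₂ in
/-- independence of the localized polynomial presentation. -/
theorem isCI_ker_iff :
    IsCI (RingHom.ker π₁.toRingHom) ↔ IsCI (RingHom.ker π₂.toRingHom) := by
  let φ : MvPolynomial (σ₁ ⊕ σ₂) k →ₐ[k] B :=
    aeval (Sum.elim (fun i => π₁ (algebraMap (MvPolynomial σ₁ k) (Localization.AtPrime P₁) (X i)))
      (fun j => π₂ (algebraMap (MvPolynomial σ₂ k) (Localization.AtPrime P₂) (X j))))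
  have h1 := isCI_ker_locMap_iff P₁ π₁ hπ₁ φ Sum.inl Sum.inl_injective (fun i => by simp [φ])
  have h2 := isCI_ker_locMap_iff P₂ π₂ hπ₂ φ Sum.inr Sum.inr_injective (fun i => by simp [φ])
  exact h1.symm.trans h2

end Two

section EssFT

variable {R : Type u} [CommRing R] [IsRegularLocalRing R] [Algebra k R]
  [Algebra.EssFiniteType k R] (π : R →ₐ[k] B) (hπ : Function.Surjective π)

include hπ in
/-- a regular local ring essentially of finite type surjecting onto `B` is dominated by a
localized polynomial presentation with the same complete intersection property. -/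
theorem exists_pres :
    ∃ (n : ℕ) (φ : MvPolynomial (Fin n) k →ₐ[k] B), Function.Surjective (locMap φ) ∧
      (IsCI (RingHom.ker (locMap φ).toRingHom) ↔ IsCI (RingHom.ker π.toRingHom)) := by
  classical
  haveI : IsLocalHom π.toRingHom := IsLocalHom.of_surjective _ hπ
  set s := Algebra.EssFiniteType.finset k R with hs
  let e : Fin s.card ≃ s := s.equivFin.symm
  let γ : MvPolynomial (Fin s.card) k →ₐ[k] R := aeval (fun i => (e i : R))
  have hrange : γ.range = Algebra.adjoin k (s : Set R) := by
    rw [← Algebra.adjoin_range_eq_range_aeval]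
    congr 1
    ext y
    simp only [Set.mem_range, Finset.mem_coe]
    constructor
    · rintro ⟨i, rfl⟩
      exact (e i).2
    · intro hy
      exact ⟨e.symm ⟨y, hy⟩, by simp⟩
  have hcond : ∀ y : R, ∃ t ∈ Algebra.adjoin k (s : Set R), IsUnit t ∧
      y * t ∈ Algebra.adjoin k (s : Set R) :=
    (Algebra.essFiniteType_cond_iff k R s).mp (Algebra.EssFiniteType.isLocalization k R)
  let φ : MvPolynomial (Fin s.card) k →ₐ[k] B := π.comp γ
  have hunit : ∀ y : (Q φ).primeCompl, IsUnit (γ.toRingHom y) := by
    intro y
    have h0 := isUnit_of_notMem φ y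
    exact isUnit_of_map_unit π.toRingHom _ h0
  let ρ : Localization.AtPrime (Q φ) →+* R := IsLocalization.lift (M := (Q φ).primeCompl) hunit
  have hρ : ∀ p, ρ (algebraMap _ _ p) = γ p := fun p => IsLocalization.lift_eq hunit p
  have hcomp : π.toRingHom.comp ρ = (locMap φ).toRingHom := by
    apply IsLocalization.ringHom_ext (Q φ).primeCompl
    ext p
    · simp only [RingHom.comp_apply]
      have h1 : ρ (algebraMap _ _ (C p)) = γ (C p) := hρ _
      have h2 : (locMap φ).toRingHom (algebraMap _ _ (C p)) = φ (C p) := locMap_algebraMap φ _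
      rw [h1, h2]
      rfl
    · simp only [RingHom.comp_apply]
      have h1 : ρ (algebraMap _ _ (X p)) = γ (X p) := hρ _
      have h2 : (locMap φ).toRingHom (algebraMap _ _ (X p)) = φ (X p) := locMap_algebraMap φ _
      rw [h1, h2]
      rfl
  have hρsurj : Function.Surjective ρ := by
    intro y
    obtain ⟨t, ht, htu, hyt⟩ := hcond y
    rw [← hrange] at ht hyt
    obtain ⟨b, rfl⟩ := ht
    obtain ⟨a, ha⟩ := hyt
    have hb : b ∈ (Q φ).primeCompl := by
      change b ∉ Q φ
      unfold Q
      rw [Ideal.mem_comap]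
      intro hm
      exact ((mem_maximalIdeal _).mp hm) (htu.map π)
    refine ⟨IsLocalization.mk' _ a ⟨b, hb⟩, ?_⟩
    apply htu.mul_right_cancel
    change ρ _ * γ b = y * γ b
    have ha' : y * γ b = γ a := ha.symm
    rw [ha', ← hρ b, ← map_mul]
    have : IsLocalization.mk' (Localization.AtPrime (Q φ)) a ⟨b, hb⟩ * algebraMap _ _ b =
        algebraMap _ _ a := IsLocalization.mk'_spec _ _ _
    rw [this, hρ]
  refine ⟨s.card, φ, ?_, ?_⟩
  · have : ⇑(locMap φ) = π ∘ ρ := by
      funext z
      exact (RingHom.congr_fun hcomp z).symm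
    rw [this]
    exact hπ.comp hρsurj
  · have hK : RingHom.ker π.toRingHom ≠ ⊤ := by
      intro h
      have : (1 : R) ∈ RingHom.ker π.toRingHom := h ▸ Submodule.mem_top
      rw [RingHom.mem_ker, map_one] at this
      exact one_ne_zero this
    rw [← hcomp, ← RingHom.comap_ker]
    exact isCI_comap_iff ρ hρsurj _ hK

end EssFT

end Groth.Agent.H8.CIPres
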