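import Mathlib
import Groth.Prelude
import Groth.Agent.Lib.Helper8.CI.CIPres
import Groth.Agent.Lib.Helper8.GCI.Loc
import Groth.Agent.Lib.Helper8.GCI.CM

/-! Helper8: `S = k[x]/I`, `q` a prime of `S`: `S_g` is a global complete intersection for some
`g ∉ q` iff `I` is a complete intersection ideal in the local ring of the polynomial ring. -/

set_option autoImplicit false
universe u

open IsLocalRing MvPolynomial

namespace Groth.Agent.H8.CIGlob

open Groth.Agent.H8.CIId Groth.Agent.H8.CIPres Groth.Agent.H8.GCI

section Quot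

variable {k : Type u} [Field k] {n : ℕ} (I : Ideal (MvPolynomial (Fin n) k))
  (Q : Ideal (MvPolynomial (Fin n) k)) [Q.IsPrime] (hIQ : I ≤ Q)

include hIQ in
lemma comap_map_mk : (Q.map (Ideal.Quotient.mk I)).comap (Ideal.Quotient.mk I) = Q := by
  rw [Ideal.comap_map_of_surjective _ Ideal.Quotient.mk_surjective, sup_eq_left,
    ← RingHom.ker_eq_comap_bot, Ideal.mk_ker]
  exact hIQ

include hIQ in
lemma isPrime_map_mk : (Q.map (Ideal.Quotient.mk I)).IsPrime :=
  Ideal.isPrime_map_quotientMk_of_isPrime hIQ

include hIQ in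
/-- the quotient of the local ring at `Q` is the local ring of the quotient. -/
lemma isLocalization_quot :
    haveI := isPrime_map_mk I Q hIQ
    IsLocalization.AtPrime
      (Localization.AtPrime Q ⧸ I.map (algebraMap (MvPolynomial (Fin n) k)
        (Localization.AtPrime Q)))
      (Q.map (Ideal.Quotient.mk I)) := by
  haveI := isPrime_map_mk I Q hIQ
  have h : Algebra.algebraMapSubmonoid (MvPolynomial (Fin n) k ⧸ I) Q.primeCompl =
      (Q.map (Ideal.Quotient.mk I)).primeCompl := by
    ext x
    obtain ⟨y, rfl⟩ := Ideal.Quotient.mk_surjective x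
    simp only [Algebra.algebraMapSubmonoid, Submonoid.mem_map, Ideal.mem_primeCompl_iff]
    constructor
    · rintro ⟨z, hz, hzy⟩ hy
      have h1 : z - y ∈ I := by
        rw [← Ideal.Quotient.eq]
        exact hzy
      have h2 : y ∈ Q := by
        have := (Ideal.mem_comap (f := Ideal.Quotient.mk I)).mpr hy
        rwa [comap_map_mk I Q hIQ] at this
      apply hz
      have := Q.add_mem (hIQ h1) h2
      simpa using this
    · intro hy
      refine ⟨y, ?_, rfl⟩
      intro hyQ
      exact hy (Ideal.mem_map_of_mem _ hyQ)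
  unfold IsLocalization.AtPrime
  rw [← h]
  infer_instance

end Quot

section Setup

variable {k : Type u} [Field k] {n : ℕ} (I : Ideal (MvPolynomial (Fin n) k))
  (q : Ideal (MvPolynomial (Fin n) k ⧸ I)) [q.IsPrime]

lemma le_comap : I ≤ q.comap (Ideal.Quotient.mk I) := by
  intro x hx
  rw [Ideal.mem_comap, Ideal.Quotient.eq_zero_iff_mem.mpr hx]
  exact q.zero_mem

/-- the local ring of `S = k[x]/I` at `q`, as a quotient of the local ring of `k[x]`. -/
abbrev BB : Type u :=
  Localization.AtPrime (q.comap (Ideal.Quotient.mk I)) ⧸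
    I.map (algebraMap (MvPolynomial (Fin n) k) (Localization.AtPrime (q.comap (Ideal.Quotient.mk I))))

instance instLocBB : IsLocalization.AtPrime (BB I q) q := by
  have h := isLocalization_quot I (q.comap (Ideal.Quotient.mk I)) (le_comap I q)
  have h2 : (q.comap (Ideal.Quotient.mk I)).map (Ideal.Quotient.mk I) = q :=
    Ideal.map_comap_of_surjective _ Ideal.Quotient.mk_surjective q
  unfold IsLocalization.AtPrime at h ⊢
  convert h using 2
  ext x
  simp only [Ideal.mem_primeCompl_iff, h2]

instance : IsLocalRing (BB I q) := IsLocalization.AtPrime.isLocalRing (BB I q) q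

instance : IsScalarTower k (MvPolynomial (Fin n) k ⧸ I) (BB I q) :=
  IsScalarTower.of_algebraMap_eq (R := k) (S := MvPolynomial (Fin n) k ⧸ I) (A := BB I q) fun c => by
    have h1 : algebraMap k (MvPolynomial (Fin n) k ⧸ I) c =
        Ideal.Quotient.mk I (algebraMap k (MvPolynomial (Fin n) k) c) := rfl
    have h2 : algebraMap k (BB I q) c =
        Ideal.Quotient.mk _ (algebraMap k (Localization.AtPrime (q.comap (Ideal.Quotient.mk I))) c) :=
      rfl
    rw [h1, h2, Ideal.Quotient.algebraMap_quotient_map_quotient,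
      ← IsScalarTower.algebraMap_apply k (MvPolynomial (Fin n) k)]

lemma ringKrullDim_BB : ringKrullDim (BB I q) = q.height :=
  IsLocalization.AtPrime.ringKrullDim_eq_height q (BB I q)

lemma ringKrullDim_AA :
    ringKrullDim (Localization.AtPrime (q.comap (Ideal.Quotient.mk I))) =
      (q.comap (Ideal.Quotient.mk I)).height :=
  IsLocalization.AtPrime.ringKrullDim_eq_height _ _

end Setup

section Forward

variable {k : Type u} [Field k] {n : ℕ} (I : Ideal (MvPolynomial (Fin n) k))
  (q : Ideal (MvPolynomial (Fin n) k ⧸ I)) [q.IsPrime]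

local notation "SS" => MvPolynomial (Fin n) k ⧸ I
local notation "AL" => Localization.AtPrime (Ideal.comap (Ideal.Quotient.mk I) q)
local notation "IAL" => Ideal.map (algebraMap (MvPolynomial (Fin n) k)
  (Localization.AtPrime (Ideal.comap (Ideal.Quotient.mk I) q))) I

theorem isCI_of_isGlobalCI_aux {B : Type u} [CommRing B] [IsLocalRing B] [Algebra k B]
    [Algebra SS B] [IsScalarTower k SS B] [IsLocalization.AtPrime B q]
    (π₁ : AL →ₐ[k] B) (hπ₁ : Function.Surjective π₁) (hker₁ : RingHom.ker π₁.toRingHom = IAL)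
    (g : MvPolynomial (Fin n) k ⧸ I) (hg : g ∉ q)
    (h : Synt.IsGlobalCI k (Localization.Away g)) :
    IsCI (I.map (algebraMap (MvPolynomial (Fin n) k)
      (Localization.AtPrime (q.comap (Ideal.Quotient.mk I))))) := by
  classical
  -- `S_g` is nontrivial
  have hnt : ¬ Subsingleton (Localization.Away g) := by
    intro hsub
    have h1 : algebraMap SS (Localization.Away g) 1 = 0 := Subsingleton.elim _ _
    obtain ⟨⟨_, j, rfl⟩, hj⟩ := (IsLocalization.map_eq_zero_iff (Submonoid.powers g) _ _).mp h1
    simp only [mul_one] at hj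
    exact hg (Ideal.IsPrime.mem_of_pow_mem inferInstance j (hj ▸ q.zero_mem))
  rcases h with h | ⟨m, d, hdm, φ', r, hsurj, hker, hdim⟩
  · exact absurd h hnt
  -- the map `S_g → B`
  have hunit : ∀ y : Submonoid.powers g,
      IsUnit ((IsScalarTower.toAlgHom k SS (B)) y) := by
    rintro ⟨_, j, rfl⟩
    have : IsUnit (algebraMap SS (B) g) :=
      IsLocalization.map_units (B) (⟨g, hg⟩ : q.primeCompl)
    simpa using this.pow j
  let f₁ : Localization.Away g →ₐ[k] B :=
    IsLocalization.liftAlgHom (A := k) (R := SS) (M := Submonoid.powers g)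
      (S := Localization.Away g) (P := B)
      (f := IsScalarTower.toAlgHom k SS (B)) hunit
  have hf₁ : ∀ s : SS, f₁ (algebraMap SS (Localization.Away g) s) = algebraMap SS (B) s := by
    intro s
    simp [f₁]
  let φ₂ : MvPolynomial (Fin m) k →ₐ[k] B := f₁.comp φ'
  -- every element of `SS` is hit by `φ₂`
  have hhit : ∀ s : SS, ∃ a : MvPolynomial (Fin m) k,
      φ' a = algebraMap SS (Localization.Away g) s ∧ φ₂ a = algebraMap SS (B) s := by
    intro s
    obtain ⟨a, ha⟩ := hsurj (algebraMap SS (Localization.Away g) s)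
    exact ⟨a, ha, by simp [φ₂, ha, hf₁]⟩
  have hnotmem : ∀ (s : SS) (a : MvPolynomial (Fin m) k), s ∉ q → φ₂ a = algebraMap SS (B) s →
      a ∈ (Q φ₂).primeCompl := by
    intro s a hs ha
    change a ∉ Q φ₂
    unfold Q
    rw [Ideal.mem_comap]
    change φ₂ a ∉ maximalIdeal (B)
    rw [ha]
    intro hm
    exact ((mem_maximalIdeal _).mp hm) (IsLocalization.map_units (B) (⟨s, hs⟩ : q.primeCompl))
  -- surjectivity of the localized presentation
  have hπ₂ : Function.Surjective (locMap φ₂) := by
    intro b
    obtain ⟨s, t, rfl⟩ := IsLocalization.exists_mk'_eq q.primeCompl b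
    obtain ⟨a, -, ha⟩ := hhit s
    obtain ⟨u, -, hu⟩ := hhit t
    have hu' := hnotmem t u t.2 hu
    refine ⟨IsLocalization.mk' _ a ⟨u, hu'⟩, ?_⟩
    have hunit : IsUnit (algebraMap SS (B) t) := IsLocalization.map_units _ t
    apply hunit.mul_right_cancel
    rw [IsLocalization.mk'_spec, ← hu, ← locMap_algebraMap φ₂ u, ← map_mul]
    have : IsLocalization.mk' (Localization.AtPrime (Q φ₂)) a ⟨u, hu'⟩ * algebraMap _ _ u =
        algebraMap _ _ a := IsLocalization.mk'_spec _ _ _
    rw [this, locMap_algebraMap, ha]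
  -- the kernel
  have hkerφ' : ∀ a, φ' a = 0 ↔ a ∈ JJ r := by
    intro a
    change φ' a = 0 ↔ a ∈ Ideal.span (Set.range r)
    rw [← hker]
    rfl
  have hJQ : JJ r ≤ Q φ₂ := by
    intro a ha
    unfold Q
    rw [Ideal.mem_comap]
    change φ₂ a ∈ _
    have : φ₂ a = 0 := by simp [φ₂, (hkerφ' a).mpr ha]
    rw [this]
    exact Ideal.zero_mem _
  have hker₂ : RingHom.ker (locMap φ₂).toRingHom =
      (JJ r).map (algebraMap (MvPolynomial (Fin m) k) (Localization.AtPrime (Q φ₂))) := by
    apply le_antisymm
    · intro z hz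
      obtain ⟨a, u, rfl⟩ := IsLocalization.exists_mk'_eq (Q φ₂).primeCompl z
      rw [RingHom.mem_ker] at hz
      have h1 : φ₂ a = 0 := by
        have h2 : IsLocalization.mk' (Localization.AtPrime (Q φ₂)) a u *
            algebraMap _ _ (u : MvPolynomial (Fin m) k) =
            algebraMap _ _ a := IsLocalization.mk'_spec _ _ _
        have h3 := congrArg (locMap φ₂) h2
        rw [map_mul, locMap_algebraMap, locMap_algebraMap] at h3
        change (locMap φ₂) _ = 0 at hz
        rw [hz, zero_mul] at h3
        exact h3.symm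
      -- `f₁ (φ' a) = 0`
      obtain ⟨s₀, ⟨_, j, rfl⟩, hs₀⟩ := IsLocalization.exists_mk'_eq (Submonoid.powers g) (φ' a)
      have h4 : algebraMap SS (B) s₀ = 0 := by
        have h5 : φ' a * algebraMap SS (Localization.Away g) (g ^ j) =
            algebraMap SS (Localization.Away g) s₀ := by
          rw [← hs₀]
          exact IsLocalization.mk'_spec _ _ _
        have h6 := congrArg f₁ h5
        rw [map_mul, hf₁, hf₁] at h6
        have : f₁ (φ' a) = 0 := h1
        rw [this, zero_mul] at h6
        exact h6.symm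
      obtain ⟨⟨w, hw⟩, hws⟩ := (IsLocalization.map_eq_zero_iff q.primeCompl (B) s₀).mp h4
      obtain ⟨v, hv1, hv2⟩ := hhit w
      have hv' := hnotmem w v hw hv2
      have h7 : φ' (v * a) = 0 := by
        rw [map_mul, hv1]
        have h8 : φ' a * algebraMap SS (Localization.Away g) (g ^ j) =
            algebraMap SS (Localization.Away g) s₀ := by
          rw [← hs₀]
          exact IsLocalization.mk'_spec _ _ _
        have hgu : IsUnit (algebraMap SS (Localization.Away g) (g ^ j)) :=
          IsLocalization.map_units _ (⟨g ^ j, j, rfl⟩ : Submonoid.powers g)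
        apply hgu.mul_right_cancel
        rw [zero_mul, mul_assoc, h8, ← map_mul]
        simp only at hws
        rw [hws, map_zero]
      have h9 : v * a ∈ JJ r := (hkerφ' _).mp h7
      have h10 : IsLocalization.mk' (Localization.AtPrime (Q φ₂)) a u =
          IsLocalization.mk' (Localization.AtPrime (Q φ₂)) (v * a) (⟨v, hv'⟩ * u) := by
        rw [IsLocalization.mk'_eq_iff_eq]
        simp only [Submonoid.coe_mul]
        ring_nf
      rw [h10]
      exact (IsLocalization.mk'_mem_map_algebraMap_iff (Q φ₂).primeCompl _ _ _ _).mpr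
        ⟨1, Submonoid.one_mem _, by simpa using h9⟩
    · rw [Ideal.map_le_iff_le_comap]
      intro a ha
      rw [Ideal.mem_comap, RingHom.mem_ker]
      change (locMap φ₂) _ = 0
      rw [locMap_algebraMap]
      simp [φ₂, (hkerφ' a).mpr ha]
  -- the dimension of the quotient of the polynomial ring
  let e : (MvPolynomial (Fin m) k ⧸ JJ r) ≃+* Localization.Away g :=
    (Ideal.quotEquivOfEq hker.symm).trans (RingHom.quotientKerEquivOfSurjective hsurj)
  have hdim' : ringKrullDim (MvPolynomial (Fin m) k ⧸ JJ r) = ((m - d : ℕ) : WithBot ℕ∞) := by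
    rw [ringKrullDim_eq_of_ringEquiv e, hdim]
  have hreg := isRegular_locList r (Q φ₂) hJQ hdm hdim'
  have hci₂ : IsCI (RingHom.ker (locMap φ₂).toRingHom) := by
    rw [hker₂, ← ofList_locList]
    exact isCI_of_isRegular _ hreg
  -- compare with the given presentation
  have := (isCI_ker_iff (q.comap (Ideal.Quotient.mk I)) π₁ hπ₁ (Q φ₂) (locMap φ₂) hπ₂).mpr hci₂
  rwa [hker₁] at this

/-- if some `S_g` (`g ∉ q`) is a global complete intersection, then `I` is a complete
intersection ideal in the local ring of the polynomial ring. -/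
theorem isCI_of_isGlobalCI (g : MvPolynomial (Fin n) k ⧸ I) (hg : g ∉ q)
    (h : Synt.IsGlobalCI k (Localization.Away g)) :
    IsCI (I.map (algebraMap (MvPolynomial (Fin n) k)
      (Localization.AtPrime (q.comap (Ideal.Quotient.mk I))))) := by
  let π₁ : AL →ₐ[k] BB I q := Ideal.Quotient.mkₐ k IAL
  have hπ₁ : Function.Surjective π₁ := Ideal.Quotient.mkₐ_surjective k IAL
  have hker₁ : RingHom.ker π₁.toRingHom = IAL := Ideal.mk_ker
  haveI i1 : IsLocalRing (BB I q) := inferInstance
  haveI i2 : IsScalarTower k SS (BB I q) := inferInstance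
  haveI i3 : IsLocalization.AtPrime (BB I q) q := instLocBB I q
  have := @isCI_of_isGlobalCI_aux k _ n I q _ (BB I q) _ i1 _ _ i2 i3 π₁
  have h2 := this hπ₁
  have h3 := h2 hker₁
  exact h3 g hg h

end Forward

end Groth.Agent.H8.CIGlob
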