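import Mathlib
import Groth.Prelude
import Groth.Agent.Lib.Helper8.CI.CIGlob
import Groth.Agent.Lib.Helper8.CI.CIDim
import Groth.Agent.Lib.Helper8.GCI.Smooth

/-! Helper8: spreading out: if `I` is a complete intersection ideal in the local ring of the
polynomial ring at `q`, then `S_g` is a global complete intersection for some `g ∉ q`. -/

set_option autoImplicit false
universe u

open IsLocalRing MvPolynomial

namespace Groth.Agent.H8.CISpread

open Groth.Agent.H8.CIId Groth.Agent.H8.CIPres Groth.Agent.H8.GCI Groth.Agent.H8.CIGlob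
  Groth.Agent.H8.CIDim

section Ker

variable {k : Type u} [Field k] {n c : ℕ} {S : Type u} [CommRing S] [Algebra k S]
  (φ : MvPolynomial (Fin n) k →ₐ[k] S) (r : Fin c → MvPolynomial (Fin n) k)
  (hsurj : Function.Surjective φ) (g : S)

include hsurj in
/-- variant of `ker_phi'` where the relations only generate the kernel after inverting `g`. -/
lemma ker_phi'_of (G : MvPolynomial (Fin n) k) (hG : φ G = g) (hr : ∀ i, φ (r i) = 0)
    (hα' : ∀ p ∈ RingHom.ker φ.toRingHom,
      rename Fin.succ p ∈ Ideal.span (Set.range (rel' r G))) :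
    RingHom.ker (phi' φ g).toRingHom = Ideal.span (Set.range (rel' r G)) := by
  apply le_antisymm
  · set K := Ideal.span (Set.range (rel' r G)) with hK
    let α : MvPolynomial (Fin n) k →+* MvPolynomial (Fin (n + 1)) k ⧸ K :=
      (Ideal.Quotient.mk K).comp (rename Fin.succ : _ →ₐ[k] _).toRingHom
    have hα : RingHom.ker φ.toRingHom ≤ RingHom.ker α := by
      intro p hp
      rw [RingHom.mem_ker]
      simp only [α, RingHom.comp_apply]
      rw [Ideal.Quotient.eq_zero_iff_mem]
      exact hα' p hp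
    let β : S →+* MvPolynomial (Fin (n + 1)) k ⧸ K :=
      φ.toRingHom.liftOfSurjective hsurj ⟨α, hα⟩
    have hβ : ∀ p, β (φ p) = α p := fun p =>
      RingHom.liftOfRightInverse_comp_apply _ _ _ _ p
    have hmul : α G * Ideal.Quotient.mk K (X 0) = 1 := by
      simp only [α, RingHom.comp_apply]
      rw [← map_mul, ← map_one (Ideal.Quotient.mk K), Ideal.Quotient.eq]
      refine Ideal.subset_span ⟨0, ?_⟩
      simp only [rel', Fin.cons_zero, AlgHom.toRingHom_eq_coe, RingHom.coe_coe]
      ring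
    have hunit : IsUnit (β g) := by
      rw [← hG, hβ]
      exact IsUnit.of_mul_eq_one _ hmul
    let ψ : Localization.Away g →+* MvPolynomial (Fin (n + 1)) k ⧸ K :=
      IsLocalization.Away.lift g hunit
    have hψ : ∀ s, ψ (algebraMap S _ s) = β s := fun s => IsLocalization.Away.lift_eq g hunit s
    have key : ψ.comp (phi' φ g).toRingHom = Ideal.Quotient.mk K := by
      apply MvPolynomial.ringHom_ext
      · intro a
        have h1 : (phi' φ g) (C a) = algebraMap S (Localization.Away g) (φ (C a)) := by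
          rw [← phi'_rename]
          simp
        simp only [RingHom.comp_apply, AlgHom.toRingHom_eq_coe, RingHom.coe_coe]
        rw [h1, hψ, hβ]
        simp [α]
      · intro j
        simp only [RingHom.comp_apply, AlgHom.toRingHom_eq_coe, RingHom.coe_coe]
        refine Fin.cases ?_ (fun i => ?_) j
        · rw [phi'_X_zero]
          have h1 : ψ (IsLocalization.Away.invSelf g) * β g = 1 := by
            rw [← hψ, ← map_mul, mul_comm, IsLocalization.Away.mul_invSelf, map_one]
          have h2 : Ideal.Quotient.mk K (X 0) * β g = 1 := by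
            rw [← hG, hβ, mul_comm]
            exact hmul
          calc ψ (IsLocalization.Away.invSelf g)
              = ψ (IsLocalization.Away.invSelf g) * (β g * Ideal.Quotient.mk K (X 0)) := by
                rw [mul_comm (β g), h2, mul_one]
            _ = Ideal.Quotient.mk K (X 0) := by rw [← mul_assoc, h1, one_mul]
        · rw [phi'_X_succ, hψ, hβ]
          simp [α]
    intro x hx
    rw [RingHom.mem_ker] at hx
    have h1 := congr($key x)
    simp only [RingHom.comp_apply] at h1
    rw [hx, map_zero] at h1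
    exact Ideal.Quotient.eq_zero_iff_mem.mp h1.symm
  · rw [Ideal.span_le]
    rintro _ ⟨j, rfl⟩
    rw [SetLike.mem_coe, RingHom.mem_ker]
    refine Fin.cases ?_ (fun i => ?_) j
    · simp only [rel', Fin.cons_zero, AlgHom.toRingHom_eq_coe, RingHom.coe_coe, map_sub, map_mul,
        map_one, phi'_X_zero, phi'_rename, hG]
      rw [mul_comm, IsLocalization.Away.mul_invSelf, sub_self]
    · simp only [rel', Fin.cons_succ, AlgHom.toRingHom_eq_coe, RingHom.coe_coe, phi'_rename]
      rw [hr i, map_zero]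

end Ker

section Main

variable {k : Type u} [Field k] {n : ℕ} (I : Ideal (MvPolynomial (Fin n) k))
  (q : Ideal (MvPolynomial (Fin n) k ⧸ I)) [q.IsPrime]

local notation "PP" => MvPolynomial (Fin n) k
local notation "SS" => MvPolynomial (Fin n) k ⧸ I
local notation "QQ" => Ideal.comap (Ideal.Quotient.mk I) q
local notation "AL" => Localization.AtPrime (Ideal.comap (Ideal.Quotient.mk I) q)

lemma ringKrullDim_quot_comap :
    ringKrullDim (PP ⧸ QQ) = ringKrullDim (SS ⧸ q) := by
  let f : PP →+* SS ⧸ q := (Ideal.Quotient.mk q).comp (Ideal.Quotient.mk I)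
  have hf : Function.Surjective f :=
    Ideal.Quotient.mk_surjective.comp Ideal.Quotient.mk_surjective
  have hker : RingHom.ker f = QQ := by
    ext x
    simp [f, RingHom.mem_ker, Ideal.Quotient.eq_zero_iff_mem]
  exact ringKrullDim_eq_of_ringEquiv
    ((Ideal.quotEquivOfEq hker.symm).trans (RingHom.quotientKerEquivOfSurjective hf))

/-- clearing denominators: generators of `I A` coming from `I`. -/
lemma exists_numerators :
    ∃ (c' : ℕ) (F : Fin c' → PP), c' = (Ideal.map (algebraMap PP AL) I).spanFinrank ∧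
      (∀ i, F i ∈ I) ∧ (JJ F).map (algebraMap PP AL) = Ideal.map (algebraMap PP AL) I := by
  classical
  obtain ⟨s, hs, hsK⟩ := exists_finset_card_eq (Ideal.map (algebraMap PP AL) I)
  refine ⟨(Ideal.map (algebraMap PP AL) I).spanFinrank, ?_⟩
  have hnum : ∀ z ∈ s, ∃ a ∈ I, ∃ u ∈ (Ideal.primeCompl QQ),
      z * algebraMap PP AL u = algebraMap PP AL a := by
    intro z hz
    have h1 : z ∈ Ideal.map (algebraMap PP AL) I := hsK ▸ Ideal.subset_span hz
    obtain ⟨⟨a, u⟩, h⟩ := (IsLocalization.mem_map_algebraMap_iff (Ideal.primeCompl QQ) AL).mp h1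
    exact ⟨a.1, a.2, u.1, u.2, h⟩
  choose! num hnumI den hden hnd using hnum
  let e : Fin (Ideal.map (algebraMap PP AL) I).spanFinrank ≃ s :=
    (s.equivFin.trans (finCongr hs)).symm
  refine ⟨fun i => num (e i), rfl, fun i => hnumI _ (e i).2, ?_⟩
  apply le_antisymm
  · apply Ideal.map_mono
    rw [Ideal.span_le]
    rintro _ ⟨i, rfl⟩
    exact hnumI _ (e i).2
  · refine le_trans (le_of_eq hsK.symm) ?_
    rw [Ideal.span_le]
    intro z hz
    have hu : IsUnit (algebraMap PP AL (den z)) :=
      IsLocalization.map_units AL (⟨den z, hden z hz⟩ : (Ideal.primeCompl QQ))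
    obtain ⟨v, hv⟩ := hu
    have h1 : z = algebraMap PP AL (num z) * ↑v⁻¹ := by
      rw [← hnd z hz, ← hv, mul_assoc, Units.mul_inv, mul_one]
    rw [SetLike.mem_coe, h1]
    apply Ideal.mul_mem_right
    apply Ideal.mem_map_of_mem
    refine Ideal.subset_span ⟨e.symm ⟨z, hz⟩, ?_⟩
    simp

/-- if `I` is a complete intersection ideal in the local ring at `q`, then some `S_g`, `g ∉ q`,
is a global complete intersection. -/
theorem exists_isGlobalCI_of_isCI (h : IsCI (Ideal.map (algebraMap PP AL) I)) :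
    ∃ g : SS, g ∉ q ∧ Synt.IsGlobalCI k (Localization.Away g) := by
  classical
  obtain ⟨c', F, hc', hFI, hspanF⟩ := exists_numerators I q
  -- heights
  have hht : (q.height : WithBot ℕ∞) + (c' : WithBot ℕ∞) = ((Ideal.height QQ) : WithBot ℕ∞) := by
    have h1 := h
    unfold IsCI at h1
    rw [ringKrullDim_AA I q, ← hc'] at h1
    rw [← h1, ← ringKrullDim_BB I q]
  have hQn := height_add_dim_quotient (k := k) (n := n) QQ
  rw [ringKrullDim_quot_comap I q] at hQn
  haveI hSft : Algebra.FiniteType k SS :=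
    Algebra.FiniteType.of_surjective (Ideal.Quotient.mkₐ k I) Ideal.Quotient.mk_surjective
  haveI : Algebra.FiniteType k (SS ⧸ q) :=
    Algebra.FiniteType.of_surjective (Ideal.Quotient.mkₐ k q) Ideal.Quotient.mk_surjective
  obtain ⟨dq, hdq⟩ := Groth.Agent.H2.DimFG.exists_ringKrullDim_eq_nat k (SS ⧸ q)
  obtain ⟨hq, hhq⟩ : ∃ x : ℕ, q.height = x :=
    ⟨_, (ENat.natCast_toNat (Ideal.height_ne_top_of_isPrime)).symm⟩
  obtain ⟨hQ, hhQ⟩ : ∃ x : ℕ, (Ideal.height QQ) = x :=
    ⟨_, (ENat.natCast_toNat (Ideal.height_ne_top_of_isPrime)).symm⟩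
  rw [hhq, hhQ] at hht
  rw [hhQ, hdq] at hQn
  have e1 : hq + c' = hQ := by exact_mod_cast hht
  have e2 : hQ + dq = n := by exact_mod_cast hQn
  -- the element `g'`
  obtain ⟨t, ht⟩ := (isNoetherianRing_iff_ideal_fg PP).mp inferInstance I
  have hmul : ∀ p ∈ t, ∃ u ∈ (Ideal.primeCompl QQ), u * p ∈ JJ F := by
    intro p hp
    have h1 : algebraMap PP AL p ∈ (JJ F).map (algebraMap PP AL) := by
      rw [hspanF]
      exact Ideal.mem_map_of_mem _ (ht ▸ Ideal.subset_span hp)
    exact (IsLocalization.algebraMap_mem_map_algebraMap_iff (Ideal.primeCompl QQ) AL (JJ F) p).mp h1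
  choose! u hu1 hu2 using hmul
  set g' : PP := ∏ p ∈ t, u p with hg'
  have hg'Q : g' ∉ QQ := by
    intro hmem
    obtain ⟨p, hp, hmem'⟩ := Ideal.IsPrime.prod_mem_iff.mp hmem
    exact hu1 p hp hmem'
  have hg'I : ∀ p ∈ I, g' * p ∈ JJ F := by
    intro p hp
    rw [← ht] at hp
    refine Submodule.span_induction ?_ ?_ ?_ ?_ hp
    · intro x hx
      have h1 : g' = (∏ y ∈ t.erase x, u y) * u x := (Finset.prod_erase_mul _ _ hx).symm
      rw [h1, mul_assoc]
      exact Ideal.mul_mem_left _ _ (hu2 x hx)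
    · simp
    · intro x y _ _ hx hy
      rw [mul_add]
      exact add_mem hx hy
    · intro a x _ hx
      rw [smul_eq_mul, mul_left_comm]
      exact Ideal.mul_mem_left _ _ hx
  -- the element `g₂`
  have hfin : (minimalPrimes SS).Finite := minimalPrimes.finite_of_isNoetherianRing SS
  set T : Finset (Ideal SS) := hfin.toFinset.filter (fun p => ¬ p ≤ q) with hT
  have hex : ∀ p ∈ T, ∃ a ∈ p, a ∉ q := by
    intro p hp
    exact SetLike.not_le_iff_exists.mp (Finset.mem_filter.mp hp).2
  choose! a ha1 ha2 using hex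
  set g₂ : SS := ∏ p ∈ T, a p with hg₂
  have hg₂q : g₂ ∉ q := by
    intro hmem
    obtain ⟨p, hp, hmem'⟩ := Ideal.IsPrime.prod_mem_iff.mp hmem
    exact ha2 p hp hmem'
  have hg₂p : ∀ p ∈ T, g₂ ∈ p := fun p hp =>
    Ideal.mem_of_dvd _ (Finset.dvd_prod_of_mem a hp) (ha1 p hp)
  obtain ⟨G₂, hG₂⟩ := Ideal.Quotient.mk_surjective g₂
  set G : PP := g' * G₂ with hGdef
  set g : SS := Ideal.Quotient.mk I G with hgdef
  have hgq : g ∉ q := by
    rw [hgdef, hGdef, map_mul, hG₂]
    intro hmem
    rcases Ideal.IsPrime.mem_or_mem inferInstance hmem with h1 | h1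
    · exact hg'Q h1
    · exact hg₂q h1
  have hmin : ∀ p ∈ minimalPrimes SS, g ∉ p → p ≤ q := by
    intro p hp hgp
    by_contra hpq
    apply hgp
    have hpT : p ∈ T := Finset.mem_filter.mpr ⟨hfin.mem_toFinset.mpr hp, hpq⟩
    rw [hgdef, hGdef, map_mul, hG₂]
    exact Ideal.mul_mem_left _ _ (hg₂p p hpT)
  refine ⟨g, hgq, ?_⟩
  -- the presentation
  let φ : PP →ₐ[k] SS := Ideal.Quotient.mkₐ k I
  have hsurj : Function.Surjective φ := Ideal.Quotient.mk_surjective
  have hkerφ : ∀ p, p ∈ RingHom.ker φ.toRingHom ↔ p ∈ I := by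
    intro p
    rw [RingHom.mem_ker]
    exact Ideal.Quotient.eq_zero_iff_mem
  have hr : ∀ i, φ (F i) = 0 := fun i => Ideal.Quotient.eq_zero_iff_mem.mpr (hFI i)
  set K := Ideal.span (Set.range (rel' F G)) with hK
  have hK0 : X 0 * rename Fin.succ G - 1 ∈ K := Ideal.subset_span ⟨0, by simp [rel']⟩
  have hKF : (JJ F).map (rename Fin.succ : PP →ₐ[k] MvPolynomial (Fin (n + 1)) k) ≤ K := by
    rw [Ideal.map_span, Ideal.span_le]
    rintro _ ⟨_, ⟨i, rfl⟩, rfl⟩
    exact Ideal.subset_span ⟨i.succ, by simp [rel']⟩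
  have hα' : ∀ p ∈ RingHom.ker φ.toRingHom, rename Fin.succ p ∈ K := by
    intro p hp
    have hp' := (hkerφ p).mp hp
    have h1 : rename Fin.succ (g' * p) ∈ K := hKF (Ideal.mem_map_of_mem _ (hg'I p hp'))
    have h2 : rename Fin.succ p = - (rename Fin.succ p * (X 0 * rename Fin.succ G - 1)) +
        X 0 * rename Fin.succ G₂ * rename Fin.succ (g' * p) := by
      rw [hGdef]
      simp only [map_mul]
      ring
    rw [h2]
    exact Ideal.add_mem _ (neg_mem (Ideal.mul_mem_left _ _ hK0))
      (Ideal.mul_mem_left _ _ h1)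
  have hker := ker_phi'_of φ F hsurj g G rfl hr hα'
  have hsurj' := phi'_surjective φ hsurj g
  -- `S_g` is nontrivial
  haveI hnt : Nontrivial (Localization.Away g) := by
    rw [← not_subsingleton_iff_nontrivial]
    intro hsub
    have h1 : algebraMap SS (Localization.Away g) 1 = 0 := Subsingleton.elim _ _
    obtain ⟨⟨_, j, rfl⟩, hj⟩ := (IsLocalization.map_eq_zero_iff (Submonoid.powers g) _ _).mp h1
    simp only [mul_one] at hj
    exact hgq (Ideal.IsPrime.mem_of_pow_mem inferInstance j (hj ▸ q.zero_mem))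
  have hc'n : c' ≤ n := by omega
  refine Or.inr ⟨n + 1, c' + 1, by omega, phi' φ g, rel' F G, hsurj', hker, ?_⟩
  have hnc : n + 1 - (c' + 1) = n - c' := by omega
  rw [hnc]
  apply le_antisymm
  · -- upper bound
    have hN : (q.height : WithBot ℕ∞) + ringKrullDim (SS ⧸ q) = ((n - c' : ℕ) : WithBot ℕ∞) := by
      rw [hhq, hdq]
      have h0 : hq + dq = n - c' := by omega
      have h' : ((hq : ℕ∞) : WithBot ℕ∞) + (dq : WithBot ℕ∞) = ((hq + dq : ℕ) : WithBot ℕ∞) := by
        push_cast
        rfl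
      rw [h', h0]
    rw [← hN]
    apply ringKrullDim_away_le
    intro p hp hgp
    haveI : p.IsPrime := hp.1.1
    exact ringKrullDim_quotient_le_height_add k SS p q (hmin p hp hgp)
  · -- lower bound
    let e : (MvPolynomial (Fin (n + 1)) k ⧸ JJ (rel' F G)) ≃+* Localization.Away g :=
      (Ideal.quotEquivOfEq hker.symm).trans (RingHom.quotientKerEquivOfSurjective hsurj')
    haveI : Nontrivial (MvPolynomial (Fin (n + 1)) k ⧸ JJ (rel' F G)) := e.symm.injective.nontrivial
    have h1 := le_ringKrullDim_quot (rel' F G)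
    rw [ringKrullDim_eq_of_ringEquiv e, hnc] at h1
    exact h1

end Main

end Groth.Agent.H8.CISpread
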