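import Mathlib
import Groth.Prelude
import Groth.Agent.Lib.Helper8.CI.CISpread

/-! Helper8: assembling S9171. -/

set_option autoImplicit false
universe u

open IsLocalRing MvPolynomial

namespace Groth.Agent.H8.CIMain

open Groth.Agent.H8.CIId Groth.Agent.H8.CIGlob Groth.Agent.H8.CISpread

variable {k : Type u} [Field k] {n : ℕ} (I : Ideal (MvPolynomial (Fin n) k))
  (q : Ideal (MvPolynomial (Fin n) k ⧸ I)) [q.IsPrime]

theorem exists_isGlobalCI_iff_isCI :
    (∃ g : MvPolynomial (Fin n) k ⧸ I, g ∉ q ∧ Synt.IsGlobalCI k (Localization.Away g)) ↔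
      IsCI (I.map (algebraMap (MvPolynomial (Fin n) k)
        (Localization.AtPrime (q.comap (Ideal.Quotient.mk I))))) :=
  ⟨fun ⟨g, hg, h⟩ => isCI_of_isGlobalCI I q g hg h, exists_isGlobalCI_of_isCI I q⟩

lemma map_ne_top : I.map (algebraMap (MvPolynomial (Fin n) k)
    (Localization.AtPrime (q.comap (Ideal.Quotient.mk I)))) ≠ ⊤ := by
  have : Nontrivial (BB I q) := inferInstance
  exact Ideal.Quotient.nontrivial_iff.mp this

theorem isCI_iff_exists_finset' (c : ℕ)
    (hc : (c : ℕ∞) + q.height = (q.comap (Ideal.Quotient.mk I)).height) :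
    IsCI (I.map (algebraMap (MvPolynomial (Fin n) k)
        (Localization.AtPrime (q.comap (Ideal.Quotient.mk I))))) ↔
      ∃ s : Finset (Localization.AtPrime (q.comap (Ideal.Quotient.mk I))), s.card = c ∧
        Ideal.span (s : Set _) = I.map (algebraMap (MvPolynomial (Fin n) k)
          (Localization.AtPrime (q.comap (Ideal.Quotient.mk I)))) := by
  apply isCI_iff_exists_finset (map_ne_top I q) c
  have h1 : ringKrullDim (BB I q) = q.height := ringKrullDim_BB I q
  rw [h1, ringKrullDim_AA I q, ← hc]
  push_cast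
  rw [add_comm]

theorem isCI_iff_exists_isRegular' :
    IsCI (I.map (algebraMap (MvPolynomial (Fin n) k)
        (Localization.AtPrime (q.comap (Ideal.Quotient.mk I))))) ↔
      ∃ rs : List (Localization.AtPrime (q.comap (Ideal.Quotient.mk I))),
        RingTheory.Sequence.IsRegular (Localization.AtPrime (q.comap (Ideal.Quotient.mk I))) rs ∧
        Ideal.ofList rs = I.map (algebraMap (MvPolynomial (Fin n) k)
          (Localization.AtPrime (q.comap (Ideal.Quotient.mk I)))) := by
  have hcm : LocCoh.IsCohenMacaulayModule (Localization.AtPrime (q.comap (Ideal.Quotient.mk I)))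
      (Localization.AtPrime (q.comap (Ideal.Quotient.mk I))) :=
    (Groth.Agent.H1.CMFlat.isCohenMacaulayLocalRing_of_isRegularLocalRing
      (Localization.AtPrime (q.comap (Ideal.Quotient.mk I)))).supportDim_eq_depth
  exact isCI_iff_exists_isRegular hcm _

end Groth.Agent.H8.CIMain
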