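import Mathlib
import Groth.Prelude
import Groth.Agent.Lib.Helper8.CI.CIMain
import Groth.Agent.Lib.Helper8.GCI.CM

/-! Helper8: complete intersection local algebras essentially of finite type over a field:
independence of the regular presentation. -/

set_option autoImplicit false
universe u

open IsLocalRing MvPolynomial

namespace Groth.Agent.H8.CILocal

open Groth.Agent.H8.CIId Groth.Agent.H8.CIPres

variable {k : Type u} [Field k]

instance essFiniteType_localization {τ : Type} [Finite τ] (Q : Ideal (MvPolynomial τ k))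
    [Q.IsPrime] : Algebra.EssFiniteType k (Localization.AtPrime Q) := by
  haveI : Algebra.EssFiniteType (MvPolynomial τ k) (Localization.AtPrime Q) :=
    Algebra.EssFiniteType.of_isLocalization _ Q.primeCompl
  exact Algebra.EssFiniteType.comp k (MvPolynomial τ k) (Localization.AtPrime Q)

section Poly

variable {B : Type u} [CommRing B] [IsLocalRing B] [Algebra k B] [Algebra.EssFiniteType k B]

/-- a local algebra essentially of finite type is a quotient of a local ring of a polynomial
ring. -/
theorem exists_polyPres :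
    ∃ (n : ℕ) (φ : MvPolynomial (Fin n) k →ₐ[k] B), Function.Surjective (locMap φ) := by
  classical
  set s := Algebra.EssFiniteType.finset k B with hs
  let e : Fin s.card ≃ s := s.equivFin.symm
  let γ : MvPolynomial (Fin s.card) k →ₐ[k] B := aeval (fun i => (e i : B))
  have hrange : γ.range = Algebra.adjoin k (s : Set B) := by
    rw [← Algebra.adjoin_range_eq_range_aeval]
    congr 1
    ext y
    simp only [Set.mem_range, Finset.mem_coe]
    constructor
    · rintro ⟨i, rfl⟩
      exact (e i).2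
    · intro hy
      exact ⟨e.symm ⟨y, hy⟩, by simp⟩
  have hcond : ∀ y : B, ∃ t ∈ Algebra.adjoin k (s : Set B), IsUnit t ∧
      y * t ∈ Algebra.adjoin k (s : Set B) :=
    (Algebra.essFiniteType_cond_iff k B s).mp (Algebra.EssFiniteType.isLocalization k B)
  refine ⟨s.card, γ, ?_⟩
  intro y
  obtain ⟨t, ht, htu, hyt⟩ := hcond y
  rw [← hrange] at ht hyt
  obtain ⟨b, rfl⟩ := ht
  obtain ⟨a, ha⟩ := hyt
  have hb : b ∈ (Q γ).primeCompl := by
    change b ∉ Q γ
    unfold Q
    rw [Ideal.mem_comap]
    intro hm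
    exact ((mem_maximalIdeal _).mp hm) htu
  refine ⟨IsLocalization.mk' _ a ⟨b, hb⟩, ?_⟩
  apply htu.mul_right_cancel
  change locMap γ _ * γ b = y * γ b
  have ha' : y * γ b = γ a := ha.symm
  rw [ha', ← locMap_algebraMap γ b, ← map_mul]
  have : IsLocalization.mk' (Localization.AtPrime (Q γ)) a ⟨b, hb⟩ * algebraMap _ _ b =
      algebraMap _ _ a := IsLocalization.mk'_spec _ _ _
  rw [this, locMap_algebraMap]

end Poly

section Indep

variable {B : Type u} [CommRing B] [IsLocalRing B] [Algebra k B]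

/-- independence of the regular local presentation essentially of finite type. -/
theorem isCI_ker_iff_of_essFiniteType
    {R₁ : Type u} [CommRing R₁] [IsRegularLocalRing R₁] [Algebra k R₁] [Algebra.EssFiniteType k R₁]
    (π₁ : R₁ →ₐ[k] B) (hπ₁ : Function.Surjective π₁)
    {R₂ : Type u} [CommRing R₂] [IsRegularLocalRing R₂] [Algebra k R₂] [Algebra.EssFiniteType k R₂]
    (π₂ : R₂ →ₐ[k] B) (hπ₂ : Function.Surjective π₂) :
    IsCI (RingHom.ker π₁.toRingHom) ↔ IsCI (RingHom.ker π₂.toRingHom) := by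
  obtain ⟨n₁, φ₁, hφ₁, h1⟩ := exists_pres π₁ hπ₁
  obtain ⟨n₂, φ₂, hφ₂, h2⟩ := exists_pres π₂ hπ₂
  exact h1.symm.trans ((isCI_ker_iff (Q φ₁) (locMap φ₁) hφ₁ (Q φ₂) (locMap φ₂) hφ₂).trans h2)

end Indep

section CIOver

variable (k)
variable (S : Type u) [CommRing S] [IsLocalRing S] [Algebra k S]

/-- `S` has a regular local presentation whose kernel is a complete intersection ideal. -/
def HasCIPres : Prop :=
  ∃ (R : Type u) (_ : CommRing R) (_ : IsRegularLocalRing R) (_ : Algebra k R),
    Algebra.EssFiniteType k R ∧ ∃ π : R →ₐ[k] S, Function.Surjective π ∧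
      IsCI (RingHom.ker π.toRingHom)

variable {k S}

lemma ker_ne_top {R : Type u} [CommRing R] [Algebra k R] (π : R →ₐ[k] S) :
    RingHom.ker π.toRingHom ≠ ⊤ := by
  intro h
  have : (1 : R) ∈ RingHom.ker π.toRingHom := h ▸ Submodule.mem_top
  rw [RingHom.mem_ker, map_one] at this
  exact one_ne_zero this

lemma cm_of_regular (R : Type u) [CommRing R] [IsRegularLocalRing R] :
    LocCoh.IsCohenMacaulayModule R R :=
  (Groth.Agent.H1.CMFlat.isCohenMacaulayLocalRing_of_isRegularLocalRing R).supportDim_eq_depth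

theorem isCIOver_iff_hasCIPres : Synt.IsCIOver k S ↔ HasCIPres k S := by
  constructor
  · rintro ⟨R, i1, i2, i3, hess, rs, hrs, hreg, ⟨e⟩⟩
    let π : R →ₐ[k] S := (e.symm : (R ⧸ Ideal.ofList rs) →ₐ[k] S).comp
      (Ideal.Quotient.mkₐ k (Ideal.ofList rs))
    have hπ : Function.Surjective π :=
      e.symm.surjective.comp (Ideal.Quotient.mkₐ_surjective k _)
    have hker : RingHom.ker π.toRingHom = Ideal.ofList rs := by
      ext x
      rw [RingHom.mem_ker]
      change e.symm (Ideal.Quotient.mk _ x) = 0 ↔ _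
      rw [map_eq_zero_iff _ e.symm.injective, Ideal.Quotient.eq_zero_iff_mem]
    refine ⟨R, i1, i2, i3, hess, π, hπ, ?_⟩
    rw [hker]
    exact isCI_of_isRegular rs hreg
  · rintro ⟨R, i1, i2, i3, hess, π, hπ, hci⟩
    obtain ⟨rs, hreg, hrs⟩ := exists_isRegular_of_isCI (cm_of_regular R) hci
    refine ⟨R, i1, i2, i3, hess, rs, ?_, hreg, ?_⟩
    · intro r hr
      apply le_maximalIdeal (ker_ne_top π)
      rw [← hrs]
      exact Ideal.subset_span hr
    · have e1 : (R ⧸ RingHom.ker π.toRingHom) ≃ₐ[k] S :=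
        Ideal.quotientKerAlgEquivOfSurjective hπ
      have e2 : (R ⧸ Ideal.ofList rs) ≃ₐ[k] (R ⧸ RingHom.ker π.toRingHom) :=
        Ideal.quotientEquivAlgOfEq k hrs
      exact ⟨(e2.trans e1).symm⟩

theorem hasCIPres_iff_forall [Algebra.EssFiniteType k S] :
    HasCIPres k S ↔
      ∀ (R : Type u) [CommRing R] [IsRegularLocalRing R] [Algebra k R], Algebra.EssFiniteType k R →
        ∀ π : R →ₐ[k] S, Function.Surjective π → IsCI (RingHom.ker π.toRingHom) := by
  constructor
  · rintro ⟨R₀, i1, i2, i3, hess₀, π₀, hπ₀, hci₀⟩ R _ _ _ hess π hπ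
    exact (isCI_ker_iff_of_essFiniteType π₀ hπ₀ π hπ).mp hci₀
  · intro h
    obtain ⟨n, φ, hφ⟩ := exists_polyPres (k := k) (B := S)
    exact ⟨Localization.AtPrime (Q φ), _, inferInstance, _, inferInstance, locMap φ, hφ,
      h _ inferInstance (locMap φ) hφ⟩

end CIOver

section Away

open Groth.Agent.H8.GCI

theorem exists_pres_of_isGlobalCI_away {A₀ : Type u} [CommRing A₀] [Algebra k A₀]
    (q : Ideal A₀) [q.IsPrime]
    {B : Type u} [CommRing B] [IsLocalRing B] [Algebra k B]
    [Algebra A₀ B] [IsScalarTower k A₀ B] [IsLocalization.AtPrime B q]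
    (g : A₀) (hg : g ∉ q) (h : Synt.IsGlobalCI k (Localization.Away g)) :
    ∃ (m : ℕ) (φ₂ : MvPolynomial (Fin m) k →ₐ[k] B), Function.Surjective (locMap φ₂) ∧
      IsCI (RingHom.ker (locMap φ₂).toRingHom) := by
  classical
  -- `S_g` is nontrivial
  have hnt : ¬ Subsingleton (Localization.Away g) := by
    intro hsub
    have h1 : algebraMap A₀ (Localization.Away g) 1 = 0 := Subsingleton.elim _ _
    obtain ⟨⟨_, j, rfl⟩, hj⟩ := (IsLocalization.map_eq_zero_iff (Submonoid.powers g) _ _).mp h1
    simp only [mul_one] at hj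
    exact hg (Ideal.IsPrime.mem_of_pow_mem inferInstance j (hj ▸ q.zero_mem))
  rcases h with h | ⟨m, d, hdm, φ', r, hsurj, hker, hdim⟩
  · exact absurd h hnt
  -- the map `S_g → B`
  have hunit : ∀ y : Submonoid.powers g,
      IsUnit ((IsScalarTower.toAlgHom k A₀ (B)) y) := by
    rintro ⟨_, j, rfl⟩
    have : IsUnit (algebraMap A₀ (B) g) :=
      IsLocalization.map_units (B) (⟨g, hg⟩ : q.primeCompl)
    simpa using this.pow j
  let f₁ : Localization.Away g →ₐ[k] B :=
    IsLocalization.liftAlgHom (A := k) (R := A₀) (M := Submonoid.powers g)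
      (S := Localization.Away g) (P := B)
      (f := IsScalarTower.toAlgHom k A₀ (B)) hunit
  have hf₁ : ∀ s : A₀, f₁ (algebraMap A₀ (Localization.Away g) s) = algebraMap A₀ (B) s := by
    intro s
    simp [f₁]
  let φ₂ : MvPolynomial (Fin m) k →ₐ[k] B := f₁.comp φ'
  -- every element of `A₀` is hit by `φ₂`
  have hhit : ∀ s : A₀, ∃ a : MvPolynomial (Fin m) k,
      φ' a = algebraMap A₀ (Localization.Away g) s ∧ φ₂ a = algebraMap A₀ (B) s := by
    intro s
    obtain ⟨a, ha⟩ := hsurj (algebraMap A₀ (Localization.Away g) s)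
    exact ⟨a, ha, by simp [φ₂, ha, hf₁]⟩
  have hnotmem : ∀ (s : A₀) (a : MvPolynomial (Fin m) k), s ∉ q → φ₂ a = algebraMap A₀ (B) s →
      a ∈ (Q φ₂).primeCompl := by
    intro s a hs ha
    change a ∉ Q φ₂
    unfold Q
    rw [Ideal.mem_comap]
    change φ₂ a ∉ maximalIdeal (B)
    rw [ha]
    intro hm
    exact ((mem_maximalIdeal _).mp hm) (IsLocalization.map_units (B) (⟨s, hs⟩ : q.primeCompl))
  -- surjectivity of the localized presentation
  have hπ₂ : Function.Surjective (locMap φ₂) := by
    intro b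
    obtain ⟨s, t, rfl⟩ := IsLocalization.exists_mk'_eq q.primeCompl b
    obtain ⟨a, -, ha⟩ := hhit s
    obtain ⟨u, -, hu⟩ := hhit t
    have hu' := hnotmem t u t.2 hu
    refine ⟨IsLocalization.mk' _ a ⟨u, hu'⟩, ?_⟩
    have hunit : IsUnit (algebraMap A₀ (B) t) := IsLocalization.map_units _ t
    apply hunit.mul_right_cancel
    rw [IsLocalization.mk'_spec, ← hu, ← locMap_algebraMap φ₂ u, ← map_mul]
    have : IsLocalization.mk' (Localization.AtPrime (Q φ₂)) a ⟨u, hu'⟩ * algebraMap _ _ u =
        algebraMap _ _ a := IsLocalization.mk'_spec _ _ _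
    rw [this, locMap_algebraMap, ha]
  -- the kernel
  have hkerφ' : ∀ a, φ' a = 0 ↔ a ∈ JJ r := by
    intro a
    change φ' a = 0 ↔ a ∈ Ideal.span (Set.range r)
    rw [← hker]
    rfl
  have hJQ : JJ r ≤ Q φ₂ := by
    intro a ha
    unfold Q
    rw [Ideal.mem_comap]
    change φ₂ a ∈ _
    have : φ₂ a = 0 := by simp [φ₂, (hkerφ' a).mpr ha]
    rw [this]
    exact Ideal.zero_mem _
  have hker₂ : RingHom.ker (locMap φ₂).toRingHom =
      (JJ r).map (algebraMap (MvPolynomial (Fin m) k) (Localization.AtPrime (Q φ₂))) := by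
    apply le_antisymm
    · intro z hz
      obtain ⟨a, u, rfl⟩ := IsLocalization.exists_mk'_eq (Q φ₂).primeCompl z
      rw [RingHom.mem_ker] at hz
      have h1 : φ₂ a = 0 := by
        have h2 : IsLocalization.mk' (Localization.AtPrime (Q φ₂)) a u *
            algebraMap _ _ (u : MvPolynomial (Fin m) k) =
            algebraMap _ _ a := IsLocalization.mk'_spec _ _ _
        have h3 := congrArg (locMap φ₂) h2
        rw [map_mul, locMap_algebraMap, locMap_algebraMap] at h3
        change (locMap φ₂) _ = 0 at hz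
        rw [hz, zero_mul] at h3
        exact h3.symm
      -- `f₁ (φ' a) = 0`
      obtain ⟨s₀, ⟨_, j, rfl⟩, hs₀⟩ := IsLocalization.exists_mk'_eq (Submonoid.powers g) (φ' a)
      have h4 : algebraMap A₀ (B) s₀ = 0 := by
        have h5 : φ' a * algebraMap A₀ (Localization.Away g) (g ^ j) =
            algebraMap A₀ (Localization.Away g) s₀ := by
          rw [← hs₀]
          exact IsLocalization.mk'_spec _ _ _
        have h6 := congrArg f₁ h5
        rw [map_mul, hf₁, hf₁] at h6
        have : f₁ (φ' a) = 0 := h1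
        rw [this, zero_mul] at h6
        exact h6.symm
      obtain ⟨⟨w, hw⟩, hws⟩ := (IsLocalization.map_eq_zero_iff q.primeCompl (B) s₀).mp h4
      obtain ⟨v, hv1, hv2⟩ := hhit w
      have hv' := hnotmem w v hw hv2
      have h7 : φ' (v * a) = 0 := by
        rw [map_mul, hv1]
        have h8 : φ' a * algebraMap A₀ (Localization.Away g) (g ^ j) =
            algebraMap A₀ (Localization.Away g) s₀ := by
          rw [← hs₀]
          exact IsLocalization.mk'_spec _ _ _
        have hgu : IsUnit (algebraMap A₀ (Localization.Away g) (g ^ j)) :=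
          IsLocalization.map_units _ (⟨g ^ j, j, rfl⟩ : Submonoid.powers g)
        apply hgu.mul_right_cancel
        rw [zero_mul, mul_assoc, h8, ← map_mul]
        simp only at hws
        rw [hws, map_zero]
      have h9 : v * a ∈ JJ r := (hkerφ' _).mp h7
      have h10 : IsLocalization.mk' (Localization.AtPrime (Q φ₂)) a u =
          IsLocalization.mk' (Localization.AtPrime (Q φ₂)) (v * a) (⟨v, hv'⟩ * u) := by
        rw [IsLocalization.mk'_eq_iff_eq]
        simp only [Submonoid.coe_mul]
        ring_nf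
      rw [h10]
      exact (IsLocalization.mk'_mem_map_algebraMap_iff (Q φ₂).primeCompl _ _ _ _).mpr
        ⟨1, Submonoid.one_mem _, by simpa using h9⟩
    · rw [Ideal.map_le_iff_le_comap]
      intro a ha
      rw [Ideal.mem_comap, RingHom.mem_ker]
      change (locMap φ₂) _ = 0
      rw [locMap_algebraMap]
      simp [φ₂, (hkerφ' a).mpr ha]
  -- the dimension of the quotient of the polynomial ring
  let e : (MvPolynomial (Fin m) k ⧸ JJ r) ≃+* Localization.Away g :=
    (Ideal.quotEquivOfEq hker.symm).trans (RingHom.quotientKerEquivOfSurjective hsurj)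
  have hdim' : ringKrullDim (MvPolynomial (Fin m) k ⧸ JJ r) = ((m - d : ℕ) : WithBot ℕ∞) := by
    rw [ringKrullDim_eq_of_ringEquiv e, hdim]
  have hreg := isRegular_locList r (Q φ₂) hJQ hdm hdim'
  have hci₂ : IsCI (RingHom.ker (locMap φ₂).toRingHom) := by
    rw [hker₂, ← ofList_locList]
    exact isCI_of_isRegular _ hreg
  exact ⟨m, φ₂, hπ₂, hci₂⟩

end Away

end Groth.Agent.H8.CILocal
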