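import Mathlib
import Groth.Prelude
import Groth.Agent.Lib.Helper8.CI.CILocal

/-! Helper8: complete intersection local algebras: localizations of global/local complete
intersections. -/

set_option autoImplicit false
universe u

open IsLocalRing MvPolynomial

namespace Groth.Agent.H8.CILocal

open Groth.Agent.H8.CIId Groth.Agent.H8.CIPres Groth.Agent.H8.GCI Groth.Agent.H8.CISpread
  Groth.Agent.H8.CIGlob

variable {k : Type u} [Field k]

section LemmaA'

variable {n : ℕ} (I : Ideal (MvPolynomial (Fin n) k))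
  (q : Ideal (MvPolynomial (Fin n) k ⧸ I)) [q.IsPrime]
  {B : Type u} [CommRing B] [IsLocalRing B] [Algebra k B]
  [Algebra (MvPolynomial (Fin n) k ⧸ I) B] [IsScalarTower k (MvPolynomial (Fin n) k ⧸ I) B]
  [IsLocalization.AtPrime B q]

include q in
lemma essFiniteType_of_isLocalization_quot : Algebra.EssFiniteType k B := by
  haveI : Algebra.EssFiniteType (MvPolynomial (Fin n) k ⧸ I) B :=
    Algebra.EssFiniteType.of_isLocalization _ q.primeCompl
  exact Algebra.EssFiniteType.comp k (MvPolynomial (Fin n) k ⧸ I) B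

theorem exists_isGlobalCI_of_hasCIPres_quot (h : HasCIPres k B) :
    ∃ g : MvPolynomial (Fin n) k ⧸ I, g ∉ q ∧ Synt.IsGlobalCI k (Localization.Away g) := by
  haveI : Algebra.EssFiniteType k B := essFiniteType_of_isLocalization_quot I q
  let e : BB I q ≃ₐ[MvPolynomial (Fin n) k ⧸ I] B := IsLocalization.algEquiv q.primeCompl (BB I q) B
  let π : Localization.AtPrime (q.comap (Ideal.Quotient.mk I)) →ₐ[k] B :=
    ((e.restrictScalars k : BB I q →ₐ[k] B)).comp (Ideal.Quotient.mkₐ k _)
  have hπ : Function.Surjective π :=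
    (e.restrictScalars k).surjective.comp (Ideal.Quotient.mkₐ_surjective k _)
  have hker : RingHom.ker π.toRingHom = I.map (algebraMap (MvPolynomial (Fin n) k)
      (Localization.AtPrime (q.comap (Ideal.Quotient.mk I)))) := by
    ext x
    rw [RingHom.mem_ker]
    change e (Ideal.Quotient.mk _ x) = 0 ↔ _
    rw [map_eq_zero_iff _ e.injective, Ideal.Quotient.eq_zero_iff_mem]
  have hci := (hasCIPres_iff_forall (k := k) (S := B)).mp h
    (Localization.AtPrime (q.comap (Ideal.Quotient.mk I))) inferInstance π hπ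
  rw [hker] at hci
  exact exists_isGlobalCI_of_isCI I q hci

end LemmaA'

section LemmaA

variable {A₀ : Type u} [CommRing A₀] [Algebra k A₀] [Algebra.FiniteType k A₀]
  (q : Ideal A₀) [q.IsPrime]
  {B : Type u} [CommRing B] [IsLocalRing B] [Algebra k B]
  [Algebra A₀ B] [IsScalarTower k A₀ B] [IsLocalization.AtPrime B q]

theorem exists_isGlobalCI_of_hasCIPres (h : HasCIPres k B) :
    ∃ g : A₀, g ∉ q ∧ Synt.IsGlobalCI k (Localization.Away g) := by
  obtain ⟨n, ψ, hψ⟩ := Algebra.FiniteType.iff_quotient_mvPolynomial''.mp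
    (inferInstance : Algebra.FiniteType k A₀)
  let e : (MvPolynomial (Fin n) k ⧸ RingHom.ker ψ) ≃ₐ[k] A₀ :=
    Ideal.quotientKerAlgEquivOfSurjective hψ
  let q' : Ideal (MvPolynomial (Fin n) k ⧸ RingHom.ker ψ) := q.comap (e : _ →+* A₀)
  haveI : q'.IsPrime := Ideal.comap_isPrime _ _
  letI : Algebra (MvPolynomial (Fin n) k ⧸ RingHom.ker ψ) B :=
    ((algebraMap A₀ B).comp (e : _ →+* A₀)).toAlgebra
  have halg : ∀ x, algebraMap (MvPolynomial (Fin n) k ⧸ RingHom.ker ψ) B x =
      algebraMap A₀ B (e x) := fun _ => rfl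
  haveI : IsScalarTower k (MvPolynomial (Fin n) k ⧸ RingHom.ker ψ) B :=
    IsScalarTower.of_algebraMap_eq (R := k) (S := MvPolynomial (Fin n) k ⧸ RingHom.ker ψ)
      (A := B) fun c => by
        rw [halg, AlgEquiv.commutes, ← IsScalarTower.algebraMap_apply]
  haveI : IsLocalization.AtPrime B q' := by
    refine ⟨?_, ?_, ?_⟩
    · rintro ⟨y, hy⟩
      rw [halg]
      exact IsLocalization.map_units B (⟨e y, hy⟩ : q.primeCompl)
    · intro b
      obtain ⟨⟨a, s⟩, hs⟩ := IsLocalization.surj q.primeCompl b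
      refine ⟨⟨e.symm a, ⟨e.symm s, ?_⟩⟩, ?_⟩
      · change e.symm s ∉ q'
        have h1 : (e : _ →+* A₀) (e.symm (s : A₀)) = s := e.apply_symm_apply _
        rw [Ideal.mem_comap, h1]
        exact s.2
      · change b * algebraMap A₀ B (e (e.symm (s : A₀))) = algebraMap A₀ B (e (e.symm a))
        rw [e.apply_symm_apply, e.apply_symm_apply]
        exact hs
    · intro x y hxy
      rw [halg, halg] at hxy
      obtain ⟨c, hc⟩ := IsLocalization.exists_of_eq (M := q.primeCompl) hxy
      refine ⟨⟨e.symm c, ?_⟩, ?_⟩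
      · change e.symm c ∉ q'
        have h1 : (e : _ →+* A₀) (e.symm (c : A₀)) = c := e.apply_symm_apply _
        rw [Ideal.mem_comap, h1]
        exact c.2
      · apply e.injective
        change e (e.symm (c : A₀) * x) = e (e.symm (c : A₀) * y)
        rw [map_mul, map_mul, e.apply_symm_apply]
        exact hc
  obtain ⟨g', hg', hgci⟩ := exists_isGlobalCI_of_hasCIPres_quot (RingHom.ker ψ) q' h
  refine ⟨e g', hg', ?_⟩
  have hmap : Submonoid.map e (Submonoid.powers g') = Submonoid.powers (e g') :=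
    Submonoid.map_powers _ _
  exact isGlobalCI_of_algEquiv (IsLocalization.algEquivOfAlgEquiv (M := Submonoid.powers g')
    (T := Submonoid.powers (e g')) (Localization.Away g')
    (Localization.Away (e g')) e hmap) hgci

theorem hasCIPres_of_exists_isGlobalCI {A₁ : Type u} [CommRing A₁] [Algebra k A₁]
    (q : Ideal A₁) [q.IsPrime]
    {B : Type u} [CommRing B] [IsLocalRing B] [Algebra k B]
    [Algebra A₁ B] [IsScalarTower k A₁ B] [IsLocalization.AtPrime B q]
    (h : ∃ g : A₁, g ∉ q ∧ Synt.IsGlobalCI k (Localization.Away g)) : HasCIPres k B := by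
  obtain ⟨g, hg, hgci⟩ := h
  obtain ⟨m, φ₂, hsurj, hci⟩ := exists_pres_of_isGlobalCI_away q (B := B) g hg hgci
  exact ⟨Localization.AtPrime (Q φ₂), _, inferInstance, _, inferInstance, locMap φ₂, hsurj, hci⟩

theorem hasCIPres_iff_exists_isGlobalCI :
    HasCIPres k B ↔ ∃ g : A₀, g ∉ q ∧ Synt.IsGlobalCI k (Localization.Away g) :=
  ⟨exists_isGlobalCI_of_hasCIPres q, hasCIPres_of_exists_isGlobalCI q⟩

end LemmaA

section Iso

lemma atPrime_congr {R X : Type*} [CommRing R] [CommRing X] [Algebra R X] (p p' : Ideal R)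
    [p.IsPrime] [p'.IsPrime] (h : p = p') [IsLocalization.AtPrime X p] :
    IsLocalization.AtPrime X p' := by
  subst h
  infer_instance

variable {A₀ : Type u} [CommRing A₀] [Algebra k A₀] (q : Ideal A₀) [q.IsPrime]
  {B : Type u} [CommRing B] [Algebra k B] [Algebra A₀ B] [IsScalarTower k A₀ B]
  [IsLocalization.AtPrime B q]

theorem exists_algEquiv_atPrime_away (g : A₀) (hg : g ∉ q) :
    ∃ (a : Ideal (Localization.Away g)) (_ : a.IsPrime),
      Nonempty (B ≃ₐ[k] Localization.AtPrime a) := by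
  have hdisj : Disjoint (Submonoid.powers g : Set A₀) (q : Set A₀) := by
    rw [Set.disjoint_left]
    rintro _ ⟨j, rfl⟩ hm
    exact hg (Ideal.IsPrime.mem_of_pow_mem inferInstance j hm)
  let a : Ideal (Localization.Away g) := q.map (algebraMap A₀ (Localization.Away g))
  haveI ha : a.IsPrime :=
    IsLocalization.isPrime_of_isPrime_disjoint (Submonoid.powers g) _ q inferInstance hdisj
  have hcomap : a.comap (algebraMap A₀ (Localization.Away g)) = q :=
    IsLocalization.comap_map_of_isPrime_disjoint (Submonoid.powers g) _ inferInstance hdisj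
  haveI : IsLocalization.AtPrime (Localization.AtPrime a) q := atPrime_congr _ _ hcomap
  let e : B ≃ₐ[A₀] Localization.AtPrime a :=
    IsLocalization.algEquiv q.primeCompl B (Localization.AtPrime a)
  exact ⟨a, ha, ⟨e.restrictScalars k⟩⟩

end Iso

section CIOver

variable {S : Type u} [CommRing S] [IsLocalRing S] [Algebra k S]

theorem isCIOver_of_algEquiv {T : Type u} [CommRing T] [IsLocalRing T] [Algebra k T]
    (e : S ≃ₐ[k] T) (h : Synt.IsCIOver k S) : Synt.IsCIOver k T := by
  obtain ⟨R, i1, i2, i3, hess, rs, hm, hreg, ⟨e'⟩⟩ := h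
  exact ⟨R, i1, i2, i3, hess, rs, hm, hreg, ⟨e.symm.trans e'⟩⟩

lemma spanFinrank_ofList_le {R : Type u} [CommRing R] (rs : List R) :
    (Ideal.ofList rs).spanFinrank ≤ rs.length := by
  classical
  have h2 : (Ideal.ofList rs).spanFinrank ≤ rs.toFinset.card := by
    have : Ideal.ofList rs = Ideal.span (rs.toFinset : Set R) := by
      unfold Ideal.ofList
      congr 1
      ext x
      simp
    rw [this]
    have h := Submodule.spanFinrank_span_le_ncard_of_finite (R := R) (M := R)
      rs.toFinset.finite_toSet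
    rwa [Set.ncard_coe_finset] at h
  exact h2.trans (List.toFinset_card_le rs)

/-- (1) ⇔ (2). -/
theorem isCIOver_iff_forall_regular [Algebra.EssFiniteType k S] :
    Synt.IsCIOver k S ↔
      ∀ (R : Type u) [CommRing R] [IsRegularLocalRing R] [Algebra k R], Algebra.EssFiniteType k R →
        ∀ π : R →ₐ[k] S, Function.Surjective π →
          ∃ rs : List R, RingTheory.Sequence.IsRegular R rs ∧
            RingHom.ker π.toRingHom = Ideal.ofList rs := by
  rw [isCIOver_iff_hasCIPres, hasCIPres_iff_forall]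
  constructor
  · intro h R _ _ _ hess π hπ
    obtain ⟨rs, hreg, hrs⟩ := exists_isRegular_of_isCI (cm_of_regular R) (h R hess π hπ)
    exact ⟨rs, hreg, hrs.symm⟩
  · intro h R _ _ _ hess π hπ
    obtain ⟨rs, hreg, hrs⟩ := h R hess π hπ
    rw [hrs]
    exact isCI_of_isRegular rs hreg

/-- (1) ⇔ (3). -/
theorem isCIOver_iff_exists_length :
    Synt.IsCIOver k S ↔
      ∃ (R : Type u) (_ : CommRing R) (_ : IsRegularLocalRing R) (_ : Algebra k R),
        Algebra.EssFiniteType k R ∧ ∃ π : R →ₐ[k] S, Function.Surjective π ∧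
          ∃ rs : List R, RingHom.ker π.toRingHom = Ideal.ofList rs ∧
            ringKrullDim R = ringKrullDim S + (rs.length : WithBot ℕ∞) := by
  rw [isCIOver_iff_hasCIPres]
  constructor
  · rintro ⟨R, i1, i2, i3, hess, π, hπ, hci⟩
    obtain ⟨rs, hreg, hrs⟩ := exists_isRegular_of_isCI (cm_of_regular R) hci
    refine ⟨R, i1, i2, i3, hess, π, hπ, rs, hrs.symm, ?_⟩
    have h1 := ringKrullDim_add_length_eq_ringKrullDim_of_isRegular rs hreg
    have e1 : (R ⧸ RingHom.ker π.toRingHom) ≃ₐ[k] S :=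
      Ideal.quotientKerAlgEquivOfSurjective hπ
    have e2 : (R ⧸ Ideal.ofList rs) ≃ₐ[k] (R ⧸ RingHom.ker π.toRingHom) :=
      Ideal.quotientEquivAlgOfEq k hrs
    rw [← h1, ringKrullDim_eq_of_ringEquiv (e2.trans e1).toRingEquiv]
  · rintro ⟨R, i1, i2, i3, hess, π, hπ, rs, hrs, hdim⟩
    refine ⟨R, i1, i2, i3, hess, π, hπ, ?_⟩
    rw [isCI_iff_le (ker_ne_top π)]
    have e1 : (R ⧸ RingHom.ker π.toRingHom) ≃ₐ[k] S :=
      Ideal.quotientKerAlgEquivOfSurjective hπ
    rw [ringKrullDim_eq_of_ringEquiv e1.toRingEquiv, hdim]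
    gcongr
    rw [hrs]
    exact_mod_cast spanFinrank_ofList_le rs

theorem isLCIOver_of_isGlobalCI (T : Type u) [CommRing T] [Algebra k T]
    (hft : Algebra.FiniteType k T) (h : Synt.IsGlobalCI k T) : Synt.IsLCIOver k T :=
  ⟨hft, fun p => ⟨1, fun h1 => p.2.ne_top ((Ideal.eq_top_iff_one _).mpr h1),
    isGlobalCI_away T 1 h⟩⟩

/-- (5) ⇒ (1). -/
theorem isCIOver_of_isLCIOver {A : Type u} [CommRing A] [Algebra k A] (a : Ideal A) [a.IsPrime]
    (h : Synt.IsLCIOver k A) (e : S ≃ₐ[k] Localization.AtPrime a) : Synt.IsCIOver k S := by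
  obtain ⟨g, hg, hgci⟩ := h.2 ⟨a, inferInstance⟩
  have h1 : HasCIPres k (Localization.AtPrime a) :=
    hasCIPres_of_exists_isGlobalCI a ⟨g, hg, hgci⟩
  exact isCIOver_of_algEquiv e.symm (isCIOver_iff_hasCIPres.mpr h1)

/-- (1) ⇒ (4). -/
theorem exists_gci_of_isCIOver [Algebra.EssFiniteType k S] (h : Synt.IsCIOver k S) :
    ∃ (A : Type u) (_ : CommRing A) (_ : Algebra k A) (a : Ideal A) (_ : a.IsPrime),
      Algebra.FiniteType k A ∧ Synt.IsGlobalCI k A ∧
        Nonempty (S ≃ₐ[k] Localization.AtPrime a) := by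
  rw [isCIOver_iff_hasCIPres] at h
  obtain ⟨n, φ, hφ⟩ := exists_polyPres (k := k) (B := S)
  letI : Algebra (MvPolynomial (Fin n) k ⧸ RingHom.ker φ) S :=
    (Ideal.kerLiftAlg φ).toRingHom.toAlgebra
  have halg : ∀ x : MvPolynomial (Fin n) k,
      algebraMap (MvPolynomial (Fin n) k ⧸ RingHom.ker φ) S (Ideal.Quotient.mk _ x) = φ x :=
    fun x => rfl
  haveI : IsScalarTower k (MvPolynomial (Fin n) k ⧸ RingHom.ker φ) S :=
    IsScalarTower.of_algebraMap_eq (R := k) (S := MvPolynomial (Fin n) k ⧸ RingHom.ker φ)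
      (A := S) fun c => ((Ideal.kerLiftAlg φ).commutes c).symm
  let q : Ideal (MvPolynomial (Fin n) k ⧸ RingHom.ker φ) :=
    (maximalIdeal S).comap (algebraMap (MvPolynomial (Fin n) k ⧸ RingHom.ker φ) S)
  haveI : q.IsPrime := Ideal.comap_isPrime _ _
  haveI : IsLocalization.AtPrime S q := by
    refine ⟨?_, ?_, ?_⟩
    · rintro ⟨y, hy⟩
      by_contra hu
      exact hy ((mem_maximalIdeal _).mpr hu)
    · intro b
      obtain ⟨z, rfl⟩ := hφ b
      obtain ⟨a, u, rfl⟩ := IsLocalization.exists_mk'_eq (Q φ).primeCompl z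
      have hu : Ideal.Quotient.mk (RingHom.ker φ) (u : MvPolynomial (Fin n) k) ∈ q.primeCompl := by
        change _ ∉ q
        simp only [q, Ideal.mem_comap, halg]
        exact u.2
      refine ⟨⟨Ideal.Quotient.mk _ a, ⟨_, hu⟩⟩, ?_⟩
      change locMap φ _ * algebraMap _ S (Ideal.Quotient.mk _ (u : MvPolynomial (Fin n) k)) =
        algebraMap _ S (Ideal.Quotient.mk _ a)
      rw [halg, halg, ← locMap_algebraMap φ u, ← map_mul, IsLocalization.mk'_spec,
        locMap_algebraMap]
    · intro x y hxy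
      exact ⟨1, by rw [Ideal.kerLiftAlg_injective φ hxy]⟩
  haveI : Algebra.FiniteType k (MvPolynomial (Fin n) k ⧸ RingHom.ker φ) :=
    Algebra.FiniteType.of_surjective (Ideal.Quotient.mkₐ k (RingHom.ker φ))
      (Ideal.Quotient.mkₐ_surjective k _)
  obtain ⟨g, hg, hgci⟩ := exists_isGlobalCI_of_hasCIPres q h
  obtain ⟨a, ha, ⟨e⟩⟩ := exists_algEquiv_atPrime_away (k := k) q (B := S) g hg
  exact ⟨Localization.Away g, inferInstance, inferInstance, a, ha,
    Algebra.FiniteType.trans (S := MvPolynomial (Fin n) k ⧸ RingHom.ker φ) inferInstance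
      inferInstance, hgci, ⟨e⟩⟩

end CIOver

end Groth.Agent.H8.CILocal
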