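import Mathlib
import Groth.Prelude
import Groth.Agent.Lib.Helper8.CI.CILocal2

/-! Helper8: transport of global / local complete intersections over a field along a compatible
pair of ring isomorphisms (change of base field by an isomorphism). -/

set_option autoImplicit false
universe u

open MvPolynomial

namespace Groth.Agent.H8.CITransport

variable {k k' : Type u} [Field k] [Field k']
  {A A' : Type u} [CommRing A] [CommRing A'] [Algebra k A] [Algebra k' A']
  (τ : k ≃+* k') (e : A ≃+* A')
  (h : ∀ c : k, e (algebraMap k A c) = algebraMap k' A' (τ c))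

section Pres

variable {n : ℕ} (φ : MvPolynomial (Fin n) k →ₐ[k] A)

/-- the transported presentation. -/
noncomputable def phiT (_τ : k ≃+* k') : MvPolynomial (Fin n) k' →ₐ[k'] A' :=
  aeval (fun i => e (φ (X i)))

include h in
lemma phiT_map (P : MvPolynomial (Fin n) k) :
    phiT e φ τ (map (τ : k →+* k') P) = e (φ P) := by
  have : ((phiT e φ τ : MvPolynomial (Fin n) k' →+* A').comp (map (τ : k →+* k'))) =
      (e : A →+* A').comp (φ : MvPolynomial (Fin n) k →+* A) := by
    apply MvPolynomial.ringHom_ext
    · intro c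
      simp only [RingHom.comp_apply, map_C, RingHom.coe_coe]
      rw [← algebraMap_eq, AlgHom.commutes, ← algebraMap_eq, AlgHom.commutes]
      exact (h c).symm
    · intro i
      simp [phiT]
  exact congrFun (congrArg DFunLike.coe this) P

include h in
lemma phiT_surjective (hφ : Function.Surjective φ) : Function.Surjective (phiT e φ τ) := by
  intro a'
  obtain ⟨P, hP⟩ := hφ (e.symm a')
  refine ⟨map (τ : k →+* k') P, ?_⟩
  rw [phiT_map τ e h, hP, e.apply_symm_apply]

include h in
lemma ker_phiT {c : ℕ} (r : Fin c → MvPolynomial (Fin n) k)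
    (hker : RingHom.ker φ.toRingHom = Ideal.span (Set.range r)) :
    RingHom.ker (phiT e φ τ).toRingHom =
      Ideal.span (Set.range fun i => map (τ : k →+* k') (r i)) := by
  have hrange : (Set.range fun i => map (τ : k →+* k') (r i)) =
      (mapEquiv (Fin n) τ) '' Set.range r := by
    rw [← Set.range_comp]
    rfl
  have hmap : Ideal.span (Set.range fun i => map (τ : k →+* k') (r i)) =
      (Ideal.span (Set.range r)).map (mapEquiv (Fin n) τ : _ →+* MvPolynomial (Fin n) k') := by
    rw [Ideal.map_span, hrange]
    rfl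
  rw [hmap, ← hker]
  ext x'
  rw [RingHom.mem_ker]
  constructor
  · intro hx
    have h1 : x' = mapEquiv (Fin n) τ ((mapEquiv (Fin n) τ).symm x') :=
      ((mapEquiv (Fin n) τ).apply_symm_apply x').symm
    rw [h1]
    apply Ideal.mem_map_of_mem
    rw [RingHom.mem_ker]
    have h2 : phiT e φ τ (map (τ : k →+* k') ((mapEquiv (Fin n) τ).symm x')) = 0 := by
      have : map (τ : k →+* k') ((mapEquiv (Fin n) τ).symm x') = x' :=
        (mapEquiv (Fin n) τ).apply_symm_apply x'
      rw [this]
      exact hx
    rw [phiT_map τ e h] at h2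
    exact (map_eq_zero_iff e e.injective).mp h2
  · intro hx
    rw [Ideal.mem_map_iff_of_surjective
      (mapEquiv (Fin n) τ : MvPolynomial (Fin n) k →+* MvPolynomial (Fin n) k')
      (mapEquiv (Fin n) τ).surjective] at hx
    obtain ⟨x, hx, rfl⟩ := hx
    rw [RingHom.mem_ker] at hx
    change phiT e φ τ (map (τ : k →+* k') x) = 0
    rw [phiT_map τ e h]
    change e (φ x) = 0
    have : φ x = 0 := hx
    rw [this, map_zero]

end Pres

include h in
theorem isGlobalCI_of_ringEquiv (hA : Synt.IsGlobalCI k A) : Synt.IsGlobalCI k' A' := by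
  rcases hA with hA | ⟨n, c, hcn, φ, r, hsurj, hker, hdim⟩
  · exact Or.inl e.symm.injective.subsingleton
  · refine Or.inr ⟨n, c, hcn, phiT e φ τ, fun i => map (τ : k →+* k') (r i),
      phiT_surjective τ e h φ hsurj, ker_phiT τ e h φ r hker, ?_⟩
    rw [← ringKrullDim_eq_of_ringEquiv e, hdim]

include h in
theorem finiteType_of_ringEquiv (hA : Algebra.FiniteType k A) : Algebra.FiniteType k' A' := by
  obtain ⟨n, φ, hφ⟩ := Algebra.FiniteType.iff_quotient_mvPolynomial''.mp hA
  exact Algebra.FiniteType.of_surjective (phiT e φ τ) (phiT_surjective τ e h φ hφ)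

include h in
theorem isLCIOver_of_ringEquiv (hA : Synt.IsLCIOver k A) : Synt.IsLCIOver k' A' := by
  obtain ⟨hft, hloc⟩ := hA
  refine ⟨finiteType_of_ringEquiv τ e h hft, fun p' => ?_⟩
  obtain ⟨g, hg, hgci⟩ := hloc ⟨p'.asIdeal.comap (e : A →+* A'), inferInstance⟩
  refine ⟨e g, hg, ?_⟩
  have hmap : (Submonoid.powers g).map e.toMonoidHom = Submonoid.powers (e g) :=
    Submonoid.map_powers _ _
  let eloc : Localization.Away g ≃+* Localization.Away (e g) :=
    IsLocalization.ringEquivOfRingEquiv (M := Submonoid.powers g) (T := Submonoid.powers (e g))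
      (Localization.Away g) (Localization.Away (e g)) e hmap
  refine isGlobalCI_of_ringEquiv τ eloc ?_ hgci
  intro c
  rw [IsScalarTower.algebraMap_apply k A (Localization.Away g),
    IsScalarTower.algebraMap_apply k' A' (Localization.Away (e g)), ← h c]
  exact IsLocalization.ringEquivOfRingEquiv_eq hmap _

end Groth.Agent.H8.CITransport
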