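import Mathlib
import Groth.Prelude
import Groth.Agent.Lib.Helper8.CI.CITransport

/-! Helper8: being a local complete intersection over a field is Zariski local; syntomic ring maps
are local on the target ring. -/

set_option autoImplicit false
universe u

open TensorProduct

namespace Groth.Agent.H8.LCILocal

open Groth.Agent.H8.CITransport Groth.Agent.H8.GCI

variable {k : Type u} [Field k]

theorem isLCIOver_of_algEquiv {T T' : Type u} [CommRing T] [CommRing T'] [Algebra k T]
    [Algebra k T'] (e : T ≃ₐ[k] T') (h : Synt.IsLCIOver k T) : Synt.IsLCIOver k T' :=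
  isLCIOver_of_ringEquiv (RingEquiv.refl k) e.toRingEquiv (fun c => e.commutes c) h

theorem isLCIOver_of_span {T : Type u} [CommRing T] [Algebra k T] (hft : Algebra.FiniteType k T)
    (s : Set T) (hs : Ideal.span s = ⊤) (h : ∀ t ∈ s, Synt.IsLCIOver k (Localization.Away t)) :
    Synt.IsLCIOver k T := by
  refine ⟨hft, fun P => ?_⟩
  obtain ⟨t, hts, htP⟩ : ∃ t ∈ s, t ∉ P.asIdeal := by
    by_contra hcon
    push_neg at hcon
    have h1 : Ideal.span s ≤ P.asIdeal := Ideal.span_le.mpr hcon
    rw [hs] at h1
    exact P.2.ne_top (top_le_iff.mp h1)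
  have hdisj : Disjoint (Submonoid.powers t : Set T) (P.asIdeal : Set T) := by
    rw [Set.disjoint_left]
    rintro _ ⟨j, rfl⟩ hm
    exact htP (Ideal.IsPrime.mem_of_pow_mem P.2 j hm)
  let P' : Ideal (Localization.Away t) := P.asIdeal.map (algebraMap T (Localization.Away t))
  haveI hP' : P'.IsPrime :=
    IsLocalization.isPrime_of_isPrime_disjoint (Submonoid.powers t) _ _ P.2 hdisj
  obtain ⟨h', hh', hgci⟩ := (h t hts).2 ⟨P', hP'⟩
  obtain ⟨a, u, rfl⟩ := IsLocalization.exists_mk'_eq (Submonoid.powers t) h'
  have haP : a ∉ P.asIdeal := by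
    intro ha
    apply hh'
    exact (IsLocalization.mk'_mem_map_algebraMap_iff (Submonoid.powers t) _ _ _ _).mpr
      ⟨1, Submonoid.one_mem _, by simpa using ha⟩
  refine ⟨t * a, fun hm => (P.2.mem_or_mem hm).elim htP haP, ?_⟩
  have hunit : IsUnit (algebraMap T (Localization.Away t) (u : T)) :=
    IsLocalization.map_units _ u
  have hassoc : Associated (algebraMap T (Localization.Away t) a)
      (IsLocalization.mk' (Localization.Away t) a u) := by
    refine Associated.symm ⟨hunit.unit, ?_⟩
    rw [IsUnit.unit_spec]
    exact IsLocalization.mk'_spec _ _ _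
  haveI : IsLocalization.Away (t * a)
      (Localization.Away (IsLocalization.mk' (Localization.Away t) a u)) :=
    IsLocalization.Away.mul_of_associated t a (IsLocalization.mk' (Localization.Away t) a u) hassoc
  let e : Localization.Away (IsLocalization.mk' (Localization.Away t) a u) ≃ₐ[T]
      Localization.Away (t * a) :=
    IsLocalization.algEquiv (Submonoid.powers (t * a)) _ _
  exact isGlobalCI_of_algEquiv (e.restrictScalars k) hgci

section Target

variable (R S : Type u) [CommRing R] [CommRing S] [Algebra R S]

theorem isSyntomic_of_span (s : Finset S) (hs : Ideal.span (s : Set S) = ⊤)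
    (h : ∀ g ∈ s, Synt.IsSyntomic R (Localization.Away g)) : Synt.IsSyntomic R S := by
  have hflat : Module.Flat R S := by
    refine Module.flat_of_isLocalized_span S S (s : Set S) hs (fun g => Localization.Away g.1)
      (fun g => Algebra.linearMap S (Localization.Away g.1)) (fun g => (h g.1 g.2).1)
  have hfp : Algebra.FinitePresentation R S :=
    Algebra.FinitePresentation.of_span_eq_top_target s hs (fun g hg => (h g hg).2.1)
  refine ⟨hflat, hfp, fun p => ?_⟩
  have hft : Algebra.FiniteType p.asIdeal.ResidueField (p.asIdeal.Fiber S) := inferInstance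
  refine isLCIOver_of_span hft
    ((fun g : S => (1 : p.asIdeal.ResidueField) ⊗ₜ[R] g) '' (s : Set S)) ?_ ?_
  · -- the images generate the unit ideal
    have h1 : Ideal.map (Algebra.TensorProduct.includeRight :
        S →ₐ[R] p.asIdeal.Fiber S).toRingHom (Ideal.span (s : Set S)) = ⊤ := by
      rw [hs, Ideal.map_top]
    rw [Ideal.map_span] at h1
    exact h1
  · rintro _ ⟨g, hg, rfl⟩
    exact isLCIOver_of_algEquiv
      (IsLocalization.Away.tensorProductEquivTMulRight R p.asIdeal.ResidueField g
        (Localization.Away g)) ((h g hg).2.2 p)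

end Target

end Groth.Agent.H8.LCILocal
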