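import Mathlib
import Groth.Prelude
import Groth.Agent.Lib.Helper8.CI.CITransport

/-! Helper8: syntomic algebras over a field are the local complete intersections. -/

set_option autoImplicit false
universe u

open TensorProduct

namespace Groth.Agent.H8.SyntFieldAlg

open Groth.Agent.H8.CITransport

variable {k K : Type u} [Field k] [Field K] (σ : k ≃+* K) (A : Type u) [CommRing A] [Algebra K A]
  [Algebra k A] (h : ∀ c, algebraMap k A c = algebraMap K A (σ c))

section Fibre

variable (𝔭 : Ideal K) [𝔭.IsPrime]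

/-- the residue field of a prime of a field is the field. -/
noncomputable def tau : k ≃+* 𝔭.ResidueField :=
  σ.trans (𝔭.algEquivResidueFieldOfField).toRingEquiv

/-- the fibre of an algebra over a field is the algebra. -/
noncomputable def fibEquiv : A ≃ₐ[K] 𝔭.Fiber A :=
  (Algebra.TensorProduct.lid K A).symm.trans
    (Algebra.TensorProduct.congr 𝔭.algEquivResidueFieldOfField AlgEquiv.refl)

include h in
lemma fibEquiv_compat (c : k) :
    (fibEquiv A 𝔭).toRingEquiv (algebraMap k A c) =
      algebraMap 𝔭.ResidueField (𝔭.Fiber A) (tau σ 𝔭 c) := by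
  rw [h c]
  change fibEquiv A 𝔭 (algebraMap K A (σ c)) = _
  rw [AlgEquiv.commutes, Algebra.TensorProduct.algebraMap_apply,
    Algebra.TensorProduct.algebraMap_apply]
  rfl

include h in
lemma fibEquiv_symm_compat (c : 𝔭.ResidueField) :
    (fibEquiv A 𝔭).toRingEquiv.symm (algebraMap 𝔭.ResidueField (𝔭.Fiber A) c) =
      algebraMap k A ((tau σ 𝔭).symm c) := by
  apply (fibEquiv A 𝔭).toRingEquiv.injective
  rw [RingEquiv.apply_symm_apply, fibEquiv_compat σ A h, RingEquiv.apply_symm_apply]

end Fibre

include h in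
theorem isSyntomic_iff_isLCIOver : Synt.IsSyntomic K A ↔ Synt.IsLCIOver k A := by
  constructor
  · rintro ⟨-, -, hfib⟩
    have h1 := hfib ⟨⊥, Ideal.isPrime_bot⟩
    exact isLCIOver_of_ringEquiv (tau σ (⊥ : Ideal K)).symm (fibEquiv A (⊥ : Ideal K)).toRingEquiv.symm
      (fibEquiv_symm_compat σ A h ⊥) h1
  · intro hlci
    have hft : Algebra.FiniteType K A :=
      finiteType_of_ringEquiv σ (RingEquiv.refl A) (fun c => h c) hlci.1
    refine ⟨inferInstance, Algebra.FinitePresentation.of_finiteType.mp hft, fun 𝔭 => ?_⟩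
    exact isLCIOver_of_ringEquiv (tau σ 𝔭.asIdeal) (fibEquiv A 𝔭.asIdeal).toRingEquiv
      (fibEquiv_compat σ A h 𝔭.asIdeal) hlci

end Groth.Agent.H8.SyntFieldAlg
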