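import Mathlib
import Groth.Prelude
import Groth.Agent.Lib.Helper8.CI.SyntFieldAlg

set_option autoImplicit false
universe u

open AlgebraicGeometry CategoryTheory Opposite TopologicalSpace

namespace Groth.Agent.H8.SyntField

variable {k : Type u} [Field k] {X : Scheme.{u}} (p : X ⟶ Spec (CommRingCat.of k))

lemma le_preimage_top (U : X.Opens) : U ≤ p ⁻¹ᵁ ⊤ := by
  rw [Scheme.Hom.preimage_top]
  exact le_top

/-- the structure map `k → Γ(X, U)`. -/
noncomputable def rho (U : X.Opens) : k →+* Γ(X, U) :=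
  ((Scheme.ΓSpecIso (CommRingCat.of k)).inv ≫ p.appLE ⊤ U (le_preimage_top p U)).hom

lemma rho_res {U V : X.Opens} (hVU : V ≤ U) :
    (X.presheaf.map (homOfLE hVU).op).hom.comp (rho p U) = rho p V := by
  unfold rho
  rw [← CommRingCat.hom_comp, Category.assoc, Scheme.Hom.appLE_map]

lemma finiteType_rho [LocallyOfFiniteType p] {U : X.Opens} (hU : IsAffineOpen U) :
    (rho p U).FiniteType := by
  have h1 : (p.appLE ⊤ U (le_preimage_top p U)).hom.FiniteType :=
    HasRingHomProperty.appLE (P := @LocallyOfFiniteType) p inferInstance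
      ⟨⊤, isAffineOpen_top _⟩ ⟨U, hU⟩ (le_preimage_top p U)
  have h2 : ((Scheme.ΓSpecIso (CommRingCat.of k)).inv).hom.FiniteType :=
    RingHom.FiniteType.of_surjective _
      (ConcreteCategory.bijective_of_isIso (Scheme.ΓSpecIso (CommRingCat.of k)).inv).2
  exact h1.comp h2

/-- the structure map `k → O_{X,x}`. -/
noncomputable def stalkRho (x : X) : k →+* X.presheaf.stalk x :=
  ((Scheme.ΓSpecIso (CommRingCat.of k)).inv ≫ p.appLE ⊤ ⊤ (le_preimage_top p ⊤) ≫
    X.presheaf.germ ⊤ x trivial).hom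

lemma germ_comp_rho {U : X.Opens} (x : X) (hx : x ∈ U) :
    (X.presheaf.germ U x hx).hom.comp (rho p U) = stalkRho p x := by
  unfold rho stalkRho
  rw [← CommRingCat.hom_comp, Category.assoc]
  congr 2
  rw [← X.presheaf.germ_res (homOfLE (le_top : U ≤ ⊤)) x hx, ← Category.assoc,
    Scheme.Hom.appLE_map]

section BasicOpen

variable {U : X.Opens} (hU : IsAffineOpen U) (g : Γ(X, U))

include hU in
theorem isGlobalCI_basicOpen :
    letI := (rho p U).toAlgebra
    Synt.IsGlobalCI k (Localization.Away g) →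
      @Synt.IsGlobalCI k _ Γ(X, X.basicOpen g) _ (rho p (X.basicOpen g)).toAlgebra := by
  letI := (rho p U).toAlgebra
  intro h
  letI := (rho p (X.basicOpen g)).toAlgebra
  haveI : IsScalarTower k Γ(X, U) Γ(X, X.basicOpen g) :=
    IsScalarTower.of_algebraMap_eq' (rho_res p (X.basicOpen_le g)).symm
  haveI := hU.isLocalization_basicOpen g
  let e : Localization.Away g ≃ₐ[Γ(X, U)] Γ(X, X.basicOpen g) :=
    IsLocalization.algEquiv (Submonoid.powers g) _ _
  exact Groth.Agent.H8.GCI.isGlobalCI_of_algEquiv (e.restrictScalars k) h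

end BasicOpen

section Stalk

open Groth.Agent.H8.CILocal

variable [LocallyOfFiniteType p] {U : X.Opens} (hU : IsAffineOpen U) (x : X) (hx : x ∈ U)

include hx in
omit [LocallyOfFiniteType p] in
lemma notMem_primeIdealOf_iff (g : Γ(X, U)) :
    g ∉ (hU.primeIdealOf ⟨x, hx⟩).asIdeal ↔ x ∈ X.basicOpen g := by
  letI : Algebra Γ(X, U) (X.presheaf.stalk x) :=
    TopCat.Presheaf.algebra_section_stalk X.presheaf ⟨x, hx⟩
  haveI := hU.isLocalization_stalk ⟨x, hx⟩
  rw [Scheme.mem_basicOpen X g x hx]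
  exact (IsLocalization.AtPrime.isUnit_to_map_iff (X.presheaf.stalk x)
    (hU.primeIdealOf ⟨x, hx⟩).asIdeal g).symm

include hU hx in
theorem isCIOver_stalk_iff :
    letI := (rho p U).toAlgebra
    @Synt.IsCIOver k _ (X.presheaf.stalk x) _ (stalkRho p x).toAlgebra _ ↔
      ∃ g : Γ(X, U), x ∈ X.basicOpen g ∧ Synt.IsGlobalCI k (Localization.Away g) := by
  letI := (rho p U).toAlgebra
  letI := (stalkRho p x).toAlgebra
  haveI : Algebra.FiniteType k Γ(X, U) := finiteType_rho p hU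
  letI : Algebra Γ(X, U) (X.presheaf.stalk x) :=
    TopCat.Presheaf.algebra_section_stalk X.presheaf ⟨x, hx⟩
  haveI : IsScalarTower k Γ(X, U) (X.presheaf.stalk x) :=
    IsScalarTower.of_algebraMap_eq' (germ_comp_rho p x hx).symm
  haveI := hU.isLocalization_stalk ⟨x, hx⟩
  rw [isCIOver_iff_hasCIPres, hasCIPres_iff_exists_isGlobalCI (hU.primeIdealOf ⟨x, hx⟩).asIdeal]
  have hmem := notMem_primeIdealOf_iff hU x hx
  constructor
  · rintro ⟨g, hg, h⟩
    exact ⟨g, (hmem g).mp hg, h⟩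
  · rintro ⟨g, hg, h⟩
    exact ⟨g, (hmem g).mpr hg, h⟩

end Stalk

section Syntomic

variable {U : X.Opens}

theorem isSyntomic_iff_isLCIOver' :
    (@Synt.IsSyntomic Γ(Spec (CommRingCat.of k), ⊤) _ Γ(X, U) _
      (p.appLE ⊤ U (le_preimage_top p U)).hom.toAlgebra) ↔
      @Synt.IsLCIOver k _ Γ(X, U) _ (rho p U).toAlgebra := by
  let σ : k ≃+* Γ(Spec (CommRingCat.of k), ⊤) :=
    (Scheme.ΓSpecIso (CommRingCat.of k)).symm.commRingCatIsoToRingEquiv
  letI : Field Γ(Spec (CommRingCat.of k), ⊤) :=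
    (MulEquiv.isField (Field.toIsField k) σ.symm.toMulEquiv).toField
  letI := (p.appLE ⊤ U (le_preimage_top p U)).hom.toAlgebra
  letI := (rho p U).toAlgebra
  exact Groth.Agent.H8.SyntFieldAlg.isSyntomic_iff_isLCIOver σ Γ(X, U) (fun c => rfl)

end Syntomic

section At

open Groth.Agent.H8.CILocal

theorem isSyntomicAt_iff (x : X) :
    Synt.IsSyntomicAt p x ↔ ∃ U : X.affineOpens, x ∈ U.1 ∧
      @Synt.IsLCIOver k _ Γ(X, U.1) _ (rho p U.1).toAlgebra := by
  constructor
  · rintro ⟨U, ⟨V, hV⟩, e, hx, h⟩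
    have hVtop : V = ⊤ := by
      ext y
      simp only [Opens.coe_top, Set.mem_univ, iff_true, SetLike.mem_coe]
      have : y = p.base x := Subsingleton.elim _ _
      rw [this]
      exact e hx
    subst hVtop
    exact ⟨U, hx, (isSyntomic_iff_isLCIOver' p).mp h⟩
  · rintro ⟨U, hx, h⟩
    exact ⟨U, ⟨⊤, isAffineOpen_top _⟩, le_preimage_top p U.1, hx,
      (isSyntomic_iff_isLCIOver' p).mpr h⟩

theorem tfae [LocallyOfFiniteType p] :
    [Synt.IsSyntomicMor p,
      ∀ x : ↑X, ∃ U : X.affineOpens, x ∈ U.1 ∧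
        @Synt.IsGlobalCI k _ Γ(X, U.1) _ (rho p U.1).toAlgebra,
      ∀ x : ↑X, @Synt.IsCIOver k _ (X.presheaf.stalk x) _ (stalkRho p x).toAlgebra _].TFAE := by
  tfae_have 1 → 2 := by
    intro h x
    obtain ⟨U, hx, hlci⟩ := (isSyntomicAt_iff p x).mp (h x)
    letI := (rho p U.1).toAlgebra
    obtain ⟨g, hg, hgci⟩ := hlci.2 (U.2.primeIdealOf ⟨x, hx⟩)
    exact ⟨⟨X.basicOpen g, U.2.basicOpen g⟩, (notMem_primeIdealOf_iff U.2 x hx g).mp hg,
      isGlobalCI_basicOpen p U.2 g hgci⟩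
  tfae_have 2 → 3 := by
    intro h x
    obtain ⟨U, hx, hgci⟩ := h x
    letI := (rho p U.1).toAlgebra
    refine (isCIOver_stalk_iff p U.2 x hx).mpr ⟨1, ?_, Groth.Agent.H8.GCI.isGlobalCI_away _ 1 hgci⟩
    rw [Scheme.mem_basicOpen X 1 x hx, map_one]
    exact isUnit_one
  tfae_have 3 → 1 := by
    intro h x
    obtain ⟨U, hU, hx, -⟩ := exists_isAffineOpen_mem_and_subset (X := X) (x := x) (U := ⊤) trivial
    letI := (rho p U).toAlgebra
    obtain ⟨g, hxg, hg⟩ := (isCIOver_stalk_iff p hU x hx).mp (h x)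
    refine (isSyntomicAt_iff p x).mpr ⟨⟨X.basicOpen g, hU.basicOpen g⟩, hxg, ?_⟩
    exact @isLCIOver_of_isGlobalCI k _ Γ(X, X.basicOpen g) _ (rho p (X.basicOpen g)).toAlgebra
      (finiteType_rho p (hU.basicOpen g)) (isGlobalCI_basicOpen p hU g hg)
  tfae_finish

end At

end Groth.Agent.H8.SyntField
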